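import Mathlib
import Cfsg.Agent.Lib.Fusion.FrobeniusCriterion

/-!
# Forks in a 2-group of class at most two

A fork in `S` is a subgroup `Q` of index two in `S` together with an elementary abelian subgroup
`U` centralized by `Q`, on which every element outside `Q` acts with commutator subgroup and fixed
subgroup equal to `E`, and which meets the squares and commutators of `Q` trivially.  Forks with the
same `E` have at most two different `Q`; so a group of odd order acting on `S` cannot move `U` out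
of `Q`.
-/

set_option autoImplicit false

namespace CfsgLib.NilMaxAct

open Subgroup
open scoped commutatorElement

variable {G : Type*} [Group G]

/-- A fork `(Q, U, E)` in `S`. -/
structure Fork (S Q U E : Subgroup G) : Prop where
  Q_le : Q ≤ S
  U_le : U ≤ Q
  E_le : E ≤ U
  S_norm : S ≤ normalizer (U : Set G)
  out : ∃ s ∈ S, s ∉ Q
  mul_mem' : ∀ s ∈ S, ∀ t ∈ S, s ∉ Q → t ∉ Q → s * t ∈ Q
  nontriv : ∃ u ∈ U, u ∉ E
  comm_mem : ∀ u ∈ U, ∀ s ∈ S, ⁅u, s⁆ ∈ E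
  comm_Q : ∀ u ∈ U, ∀ q ∈ Q, u * q = q * u
  comm_ne : ∀ u ∈ U, u ∉ E → ∀ s ∈ S, s ∉ Q → u * s ≠ s * u
  comm_surj : ∀ s ∈ S, s ∉ Q → ∀ e ∈ E, ∃ u ∈ U, ⁅u, s⁆ = e
  invol : ∀ u ∈ U, u * u = 1
  sq : ∀ q ∈ Q, q * q ∈ U → q * q = 1
  comm : ∀ q ∈ Q, ∀ q' ∈ Q, ⁅q, q'⁆ ∈ U → ⁅q, q'⁆ = 1

variable {S Q₁ Q₂ Q₃ U₁ U₂ U₃ E E₁ E₂ : Subgroup G}

theorem Fork.eq_of_le (h₁ : Fork S Q₁ U₁ E₁) (h₂ : Fork S Q₂ U₂ E₂) (h : Q₁ ≤ Q₂) : Q₁ = Q₂ := by
  refine le_antisymm h fun t ht => ?_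
  by_contra htQ
  obtain ⟨s, hs, hsQ⟩ := h₂.out
  have hst := h (h₁.mul_mem' s hs t (h₂.Q_le ht) (fun hh => hsQ (h hh)) htQ)
  exact hsQ (by simpa using mul_mem hst (inv_mem ht))

/-- Two forks with the same `E` and different `Q`: each `U` sticks out of the other `Q`. -/
theorem Fork.exists_notMem (h₁ : Fork S Q₁ U₁ E) (h₂ : Fork S Q₂ U₂ E) (hne : Q₁ ≠ Q₂) :
    ∃ u ∈ U₁, u ∉ Q₂ := by
  by_contra hcon
  push Not at hcon
  obtain ⟨s, hs, hsn⟩ : ∃ s ∈ Q₂, s ∉ Q₁ := by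
    by_contra hc
    push Not at hc
    exact hne (h₂.eq_of_le h₁ hc).symm
  obtain ⟨u, hu, huE⟩ := h₁.nontriv
  apply h₁.comm_ne u hu huE s (h₂.Q_le hs) hsn
  exact commutatorElement_eq_one_iff_mul_comm.1
    (h₂.comm u (hcon u hu) s hs (h₂.E_le (h₁.comm_mem u hu s (h₂.Q_le hs))))

/-- At most two different `Q` for a given `E`. -/
theorem Fork.two_only (h₁ : Fork S Q₁ U₁ E) (h₂ : Fork S Q₂ U₂ E) (h₃ : Fork S Q₃ U₃ E)
    (h12 : Q₁ ≠ Q₂) (h13 : Q₁ ≠ Q₃) : Q₂ = Q₃ := by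
  by_contra h23
  obtain ⟨u, hu, hu2, hu3⟩ : ∃ u ∈ U₁, u ∉ Q₂ ∧ u ∉ Q₃ := by
    obtain ⟨u, hu, hu2⟩ := h₁.exists_notMem h₂ h12
    obtain ⟨w, hw, hw3⟩ := h₁.exists_notMem h₃ h13
    by_cases hu3 : u ∈ Q₃
    · by_cases hw2 : w ∈ Q₂
      · exact ⟨u * w, mul_mem hu hw, fun h => hu2 (by simpa using mul_mem h (inv_mem hw2)),
          fun h => hw3 (by simpa using mul_mem (inv_mem hu3) h)⟩
      · exact ⟨w, hw, hw2, hw3⟩
    · exact ⟨u, hu, hu2, hu3⟩
  obtain ⟨v, hv, hv1, hv3⟩ : ∃ v ∈ U₂, v ∉ Q₁ ∧ v ∉ Q₃ := by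
    obtain ⟨v, hv, hv1⟩ := h₂.exists_notMem h₁ (Ne.symm h12)
    obtain ⟨w, hw, hw3⟩ := h₂.exists_notMem h₃ h23
    by_cases hv3 : v ∈ Q₃
    · by_cases hw1 : w ∈ Q₁
      · exact ⟨v * w, mul_mem hv hw, fun h => hv1 (by simpa using mul_mem h (inv_mem hw1)),
          fun h => hw3 (by simpa using mul_mem (inv_mem hv3) h)⟩
      · exact ⟨w, hw, hw1, hw3⟩
    · exact ⟨v, hv, hv1, hv3⟩
  have huS := h₁.Q_le (h₁.U_le hu)
  have hvS := h₂.Q_le (h₂.U_le hv)
  have hQ3 : u * v ∈ Q₃ := h₃.mul_mem' u huS v hvS hu3 hv3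
  have hu' : u⁻¹ = u := inv_eq_of_mul_eq_one_left (h₁.invol u hu)
  have hv' : v⁻¹ = v := inv_eq_of_mul_eq_one_left (h₂.invol v hv)
  have hsq : u * v * (u * v) = ⁅u, v⁆ := by
    rw [commutatorElement_def, hu', hv', ← mul_assoc]
  have h1 : ⁅u, v⁆ = 1 := hsq ▸ h₃.sq _ hQ3 (hsq ▸ h₃.E_le (h₁.comm_mem u hu v hvS))
  have hvE : v ∉ E := fun h => hv1 (h₁.U_le (h₁.E_le h))
  exact h₂.comm_ne v hv hvE u huS hu2 (commutatorElement_eq_one_iff_mul_comm.1 h1).symm

/-- If `U₂` sticks out of `Q₁`, then `E₁ ≤ E₂`. -/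
theorem Fork.E_le_of_notMem (h₁ : Fork S Q₁ U₁ E₁) (h₂ : Fork S Q₂ U₂ E₂) {v : G}
    (hv : v ∈ U₂) (hvQ : v ∉ Q₁) : E₁ ≤ E₂ := by
  intro e he
  obtain ⟨u, hu, rfl⟩ := h₁.comm_surj v (h₂.Q_le (h₂.U_le hv)) hvQ e he
  by_cases huQ : u ∈ Q₂
  · rw [commutatorElement_eq_one_iff_mul_comm.2 (h₂.comm_Q v hv u huQ).symm]
    exact one_mem _
  · rw [← commutatorElement_inv]
    exact inv_mem (h₂.comm_mem v hv u (h₁.Q_le (h₁.U_le hu)))

theorem Fork.map (h : Fork S Q₁ U₁ E₁) (f : G ≃* G) (hf : S.map f.toMonoidHom = S) :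
    Fork S (Q₁.map f.toMonoidHom) (U₁.map f.toMonoidHom) (E₁.map f.toMonoidHom) := by
  have mem : ∀ (H : Subgroup G) (x : G), x ∈ H.map f.toMonoidHom ↔ f.symm x ∈ H := fun H x =>
    mem_map_equiv
  have hS : ∀ x : G, x ∈ S ↔ f.symm x ∈ S := fun x => by
    conv_lhs => rw [← hf]
    exact mem S x
  have hc : ∀ x y : G, ⁅f x, f y⁆ = f ⁅x, y⁆ := fun x y => (map_commutatorElement f x y).symm
  refine ⟨hf ▸ map_mono h.Q_le, map_mono h.U_le, map_mono h.E_le, ?_, ?_, ?_, ?_, ?_, ?_, ?_, ?_,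
    ?_, ?_, ?_⟩
  · intro s hs
    rw [mem_normalizer_iff]
    intro x
    rw [mem, mem, map_mul, map_mul, map_inv]
    exact mem_normalizer_iff.1 (h.S_norm ((hS s).1 hs)) _
  · obtain ⟨s, hs, hsQ⟩ := h.out
    exact ⟨f s, (hS _).2 (by simpa using hs), fun hh => hsQ (by simpa [mem] using hh)⟩
  · intro s hs t ht hsQ htQ
    rw [mem, map_mul]
    exact h.mul_mem' _ ((hS s).1 hs) _ ((hS t).1 ht) (fun hh => hsQ ((mem _ _).2 hh))
      (fun hh => htQ ((mem _ _).2 hh))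
  · obtain ⟨u, hu, huE⟩ := h.nontriv
    exact ⟨f u, mem_map_of_mem _ hu, fun hh => huE (by simpa [mem] using hh)⟩
  · intro u hu s hs
    rw [mem, map_commutatorElement]
    exact h.comm_mem _ ((mem _ _).1 hu) _ ((hS s).1 hs)
  · intro u hu q hq
    apply f.symm.injective
    rw [map_mul, map_mul]
    exact h.comm_Q _ ((mem _ _).1 hu) _ ((mem _ _).1 hq)
  · intro u hu huE s hs hsQ he
    refine h.comm_ne _ ((mem _ _).1 hu) (fun hh => huE ((mem _ _).2 hh)) _ ((hS s).1 hs)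
      (fun hh => hsQ ((mem _ _).2 hh)) ?_
    rw [← map_mul, ← map_mul, he]
  · intro s hs hsQ e he
    obtain ⟨u, hu, hue⟩ := h.comm_surj _ ((hS s).1 hs) (fun hh => hsQ ((mem _ _).2 hh)) _
      ((mem _ _).1 he)
    refine ⟨f u, mem_map_of_mem _ hu, ?_⟩
    apply f.symm.injective
    rw [map_commutatorElement, MulEquiv.symm_apply_apply, hue]
  · intro u hu
    apply f.symm.injective
    rw [map_mul, map_one]
    exact h.invol _ ((mem _ _).1 hu)
  · intro q hq hqU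
    apply f.symm.injective
    rw [map_mul, map_one]
    exact h.sq _ ((mem _ _).1 hq) (by rw [← map_mul]; exact (mem _ _).1 hqU)
  · intro q hq q' hq' hU
    apply f.symm.injective
    rw [map_commutatorElement, map_one]
    exact h.comm _ ((mem _ _).1 hq) _ ((mem _ _).1 hq')
      (by rw [← map_commutatorElement]; exact (mem _ _).1 hU)

variable [Finite G] {A : Type*} [Group A] [Finite A] [MulDistribMulAction A G]

/-- A group of odd order does not move `U` out of `Q`. -/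
theorem Fork.map_le_of_odd {Q U : Subgroup G} (h : Fork S Q U E) (hA : Odd (Nat.card A))
    (hSA : ∀ a : A, S.map (MulDistribMulAction.toMulEquiv G a).toMonoidHom = S) (a : A) :
    U.map (MulDistribMulAction.toMulEquiv G a).toMonoidHom ≤ Q := by
  set f : A → Subgroup G → Subgroup G := fun b H =>
    H.map (MulDistribMulAction.toMulEquiv G b).toMonoidHom with hf
  have hmul : ∀ (b c : A) (H : Subgroup G), f b (f c H) = f (b * c) H := fun b c H => by
    simp only [hf, Subgroup.map_map]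
    congr 1
    ext x
    exact (mul_smul b c x).symm
  have hone : ∀ H : Subgroup G, f 1 H = H := fun H => by
    simp only [hf]
    convert Subgroup.map_id H
    ext x
    exact one_smul A x
  by_contra hcon
  obtain ⟨v, hv, hvQ⟩ := SetLike.not_le_iff_exists.1 hcon
  have hfork : ∀ b : A, Fork S (f b Q) (f b U) (f b E) := fun b => h.map _ (hSA b)
  have hE : E = f a E :=
    Subgroup.eq_of_le_of_card_ge (h.E_le_of_notMem (hfork a) hv hvQ)
      (Subgroup.card_map_of_injective (MulDistribMulAction.toMulEquiv G a).injective).le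
  have hQ : f a Q ≠ Q := fun he => hvQ (he ▸ (map_mono h.U_le) hv)
  have hE2 : f (a * a) E = E := by rw [← hmul, ← hE, ← hE]
  have h2 : f (a * a) Q = Q := by
    refine (Fork.two_only (S := S) (E := E) (Q₁ := f a Q) (Q₂ := Q) (Q₃ := f (a * a) Q)
      (U₁ := f a U) (U₂ := U) (U₃ := f (a * a) U) ?_ h ?_ hQ ?_).symm
    · have := hfork a
      rwa [← hE] at this
    · have := hfork (a * a)
      rwa [hE2] at this
    · intro he
      rw [← hmul] at he
      exact hQ (Subgroup.map_injective (MulDistribMulAction.toMulEquiv G a).injective he).symm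
  have hpow : ∀ k : ℕ, f (a ^ (2 * k)) Q = Q := by
    intro k
    induction k with
    | zero => rw [mul_zero, pow_zero, hone]
    | succ k ih =>
      rw [mul_add, mul_one, pow_add, ← hmul, pow_two, h2, ih]
  obtain ⟨k, hk⟩ := hA.of_dvd_nat (orderOf_dvd_natCard a)
  have h3 : a ^ (2 * k) * a = 1 := by rw [← pow_succ, ← hk, pow_orderOf_eq_one]
  have : f a Q = Q := by
    conv_lhs => rw [← hpow k, hmul, ← pow_succ', pow_succ, h3, hone]
  exact hQ this

/-- The odd group `A` yields an invariant subgroup normalized by `S` and by `x`. -/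
theorem Fork.absurd_of_npc {Q U : Subgroup G} (h : Fork S Q U E) (hA : Odd (Nat.card A))
    (hS : IsPGroup 2 S)
    (hSA : ∀ a : A, S.map (MulDistribMulAction.toMulEquiv G a).toMonoidHom = S) {x : G}
    (hx : Nat.Coprime (orderOf x) 2) (hxQ : ∀ q ∈ Q, x * q * x⁻¹ * q⁻¹ ∈ U)
    (hxU : ∃ u ∈ U, x * u ≠ u * x)
    (hN : ∀ W : Subgroup G, W ≠ ⊥ → W ≤ S → S ≤ normalizer (W : Set G) →
      (∀ a : A, ∀ w ∈ W, a • w ∈ W) → Cfsg.HasNormalPComplement 2 (normalizer (W : Set G))) :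
    False := by
  set W := ⨆ a : A, U.map (MulDistribMulAction.toMulEquiv G a).toMonoidHom with hW
  have hUW : U ≤ W := by
    refine le_trans ?_ (le_iSup (fun a : A => U.map (MulDistribMulAction.toMulEquiv G a).toMonoidHom) 1)
    intro u hu
    exact ⟨u, hu, one_smul A u⟩
  have hWQ : W ≤ Q := iSup_le fun a => h.map_le_of_odd hA hSA a
  have hWS : W ≤ S := hWQ.trans h.Q_le
  have hSW : S ≤ normalizer (W : Set G) := by
    intro s hs
    rw [mem_normalizer_iff_map_conj_eq]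
    simp only [hW, Subgroup.map_iSup]
    exact iSup_congr fun a => mem_normalizer_iff_map_conj_eq.1 ((h.map _ (hSA a)).S_norm hs)
  have hWA : ∀ a : A, ∀ w ∈ W, a • w ∈ W := by
    intro a w hw
    have : W.map (MulDistribMulAction.toMulEquiv G a).toMonoidHom ≤ W := by
      simp only [hW, Subgroup.map_iSup, Subgroup.map_map]
      refine iSup_le fun b => le_trans (le_of_eq ?_)
        (le_iSup (fun c : A => U.map (MulDistribMulAction.toMulEquiv G c).toMonoidHom) (a * b))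
      congr 1
      ext z
      exact (mul_smul a b z).symm
    exact this ⟨w, hw, rfl⟩
  have hxW : x ∈ normalizer (W : Set G) := by
    rw [mem_normalizer_iff_map_conj_eq]
    refine Subgroup.eq_of_le_of_card_ge ?_
      (Subgroup.card_map_of_injective (MulAut.conj x).injective).ge
    rintro _ ⟨w, hw, rfl⟩
    show x * w * x⁻¹ ∈ W
    have := mul_mem (hUW (hxQ w (hWQ hw))) hw
    simpa using this
  obtain ⟨u, hu, hne⟩ := hxU
  have hW1 : W ≠ ⊥ := fun hb => hne (by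
    have : u = 1 := mem_bot.1 (hb ▸ hUW hu)
    rw [this, mul_one, one_mul])
  exact hne (mem_centralizer_iff.1 (CfsgLib.NPC.mem_centralizer_of_hasNormalPComplement
    (hS.to_le hWS) (hN W hW1 hWS hSW hWA) hxW hx) u (hUW hu)).symm

end CfsgLib.NilMaxAct
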