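import Cfsg.Agent.Lib.NilpotentMaxAct.Inverted
import Cfsg.Agent.Lib.NilpotentMaxAct.Fork
import Cfsg.Agent.Lib.Transfer.PResidual

/-!
# Forks from centric subgroups with an automorphism of odd order
-/

set_option autoImplicit false

namespace CfsgLib.NilMaxAct

open Subgroup CfsgLib.ConjFunctor
open scoped commutatorElement

variable {G : Type*} [Group G] [Finite G] {S : Sylow 2 G}

/-- A fork in `S` and an element of odd order acting on it. -/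
theorem exists_fork {D : Subgroup G} (hDS : D ≤ (S : Subgroup G))
    (hC : (S : Subgroup G) ⊓ centralizer (D : Set G) ≤ D)
    (hcl : ∀ a ∈ (S : Subgroup G), ∀ b ∈ (S : Subgroup G), ∀ c ∈ (S : Subgroup G), Commute ⁅a, b⁆ c)
    (hNS : Cfsg.HasNormalPComplement 2 (normalizer ((S : Subgroup G) : Set G)))
    {g : G} (hg : g ∈ normalizer (D : Set G)) (hgo : Nat.Coprime (orderOf g) 2)
    (hgn : g ∉ centralizer (D : Set G)) :
    ∃ (Q U E : Subgroup G) (x : G), Fork (S : Subgroup G) Q U E ∧ Nat.Coprime (orderOf x) 2 ∧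
      (∀ q ∈ Q, x * q * x⁻¹ * q⁻¹ ∈ U) ∧ ∃ u ∈ U, x * u ≠ u * x := by
  classical
  have hcs : ∀ a ∈ (S : Subgroup G), ∀ b ∈ (S : Subgroup G),
      ⁅a, b⁆ ∈ (S : Subgroup G) ∧ ⁅a, b⁆ ∈ centralizer ((S : Subgroup G) : Set G) := fun a ha b hb =>
    ⟨mul_mem (mul_mem (mul_mem ha hb) (inv_mem ha)) (inv_mem hb),
      mem_centralizer_iff.2 fun c hc => (hcl a ha b hb c hc).eq.symm⟩
  have hcD : ∀ a ∈ (S : Subgroup G), ∀ b ∈ (S : Subgroup G), ⁅a, b⁆ ∈ D := fun a ha b hb =>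
    hC ⟨(hcs a ha b hb).1, centralizer_le hDS (hcs a ha b hb).2⟩
  have hSD : (S : Subgroup G) ≤ normalizer (D : Set G) := by
    intro s hs
    rw [mem_normalizer_iff_map_conj_eq]
    refine Subgroup.eq_of_le_of_card_ge ?_ (Subgroup.card_map_of_injective (MulEquiv.injective _)).ge
    rintro _ ⟨d, hd, rfl⟩
    have := mul_mem (hcD s hs d (hDS hd)) hd
    simpa [commutatorElement_def] using this
  set N := normalizer (D : Set G) with hN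
  set φ := D.normalizerMonoidHom with hφ
  have hφker : ∀ a : N, φ a = 1 ↔ (a : G) ∈ centralizer (D : Set G) := fun a => by
    rw [← MonoidHom.mem_ker, hφ, normalizerMonoidHom_ker, mem_subgroupOf]
  have hφeq : ∀ a b : N, φ a = φ b → ∀ d ∈ D, (a : G) * d * (a : G)⁻¹ = (b : G) * d * (b : G)⁻¹ :=
    fun a b h d hd => congrArg (fun ψ : MulAut D => ((ψ ⟨d, hd⟩ : D) : G)) h
  obtain ⟨x, hx1, hxodd, hxS, hxD, s₀, hs₀, hs₀x⟩ :=
    exists_inverted (S := S) hDS hcl hNS hSD (g := ⟨g, hg⟩)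
      (by rw [orderOf_mk]; exact Nat.coprime_two_right.1 hgo) (fun h => hgn ((hφker _).1 h))
  -- the subgroup Q
  set Q : Subgroup G :=
    ((centralizer {φ x}).comap φ ⊓ (S : Subgroup G).subgroupOf N).map N.subtype with hQdef
  have hmemQ : ∀ s : N, (s : G) ∈ Q ↔ φ s * φ x = φ x * φ s ∧ (s : G) ∈ (S : Subgroup G) := by
    intro s
    constructor
    · rintro ⟨s', ⟨h1, h2⟩, he⟩
      obtain rfl : s' = s := Subtype.ext he
      exact ⟨mem_centralizer_singleton_iff.1 h1, h2⟩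
    · rintro ⟨h1, h2⟩
      exact ⟨s, ⟨mem_centralizer_singleton_iff.2 h1, h2⟩, rfl⟩
  have hQS : Q ≤ (S : Subgroup G) := by
    rintro _ ⟨s, ⟨-, h2⟩, rfl⟩
    exact h2
  have hQN : Q ≤ N := hQS.trans hSD
  have hDQ : D ≤ Q := fun d hd =>
    (hmemQ ⟨d, le_normalizer hd⟩).2 ⟨hxD _ hd, hDS hd⟩
  have hout : ∀ (s : G) (hs : s ∈ (S : Subgroup G)), s ∉ Q →
      φ ⟨s, hSD hs⟩ * φ x * (φ ⟨s, hSD hs⟩)⁻¹ = (φ x)⁻¹ := fun s hs hsQ =>
    (hxS ⟨s, hSD hs⟩ hs).resolve_left fun h => hsQ ((hmemQ _).2 ⟨h, hs⟩)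
  have hmul : ∀ s ∈ (S : Subgroup G), ∀ t ∈ (S : Subgroup G), s ∉ Q → t ∉ Q → s * t ∈ Q := by
    intro s hs t ht hsQ htQ
    refine (hmemQ ⟨s * t, mul_mem (hSD hs) (hSD ht)⟩).2 ⟨?_, mul_mem hs ht⟩
    rw [show (⟨s * t, mul_mem (hSD hs) (hSD ht)⟩ : N) = ⟨s, hSD hs⟩ * ⟨t, hSD ht⟩ from rfl, map_mul]
    refine mul_inv_eq_iff_eq_mul.1 ?_
    calc φ ⟨s, hSD hs⟩ * φ ⟨t, hSD ht⟩ * φ x * (φ ⟨s, hSD hs⟩ * φ ⟨t, hSD ht⟩)⁻¹
        = φ ⟨s, hSD hs⟩ * (φ ⟨t, hSD ht⟩ * φ x * (φ ⟨t, hSD ht⟩)⁻¹) * (φ ⟨s, hSD hs⟩)⁻¹ := by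
          rw [mul_inv_rev]; simp only [mul_assoc]
      _ = (φ ⟨s, hSD hs⟩ * φ x * (φ ⟨s, hSD hs⟩)⁻¹)⁻¹ := by
          rw [hout t ht htQ, mul_inv_rev, mul_inv_rev, inv_inv]; simp only [mul_assoc]
      _ = φ x := by rw [hout s hs hsQ, inv_inv]
  obtain ⟨a, haS, haQ⟩ : ∃ a ∈ (S : Subgroup G), a ∉ Q := by
    refine ⟨s₀, hs₀, fun h => hx1 ?_⟩
    rw [((hmemQ s₀).1 h).1, mul_inv_cancel_right] at hs₀x
    have h2 : φ x ^ 2 = 1 := by rw [pow_two]; nth_rw 2 [hs₀x]; exact mul_inv_cancel _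
    exact orderOf_eq_one_iff.1
      (Nat.eq_one_of_dvd_coprimes hxodd.coprime_two_right dvd_rfl (orderOf_dvd_of_pow_eq_one h2))
  have hSQ : (S : Subgroup G) ≤ normalizer (Q : Set G) := by
    intro s hs
    rw [mem_normalizer_iff_map_conj_eq]
    refine Subgroup.eq_of_le_of_card_ge ?_ (Subgroup.card_map_of_injective (MulEquiv.injective _)).ge
    rintro _ ⟨q, hq, rfl⟩
    show s * q * s⁻¹ ∈ Q
    by_cases hsQ : s ∈ Q
    · exact mul_mem (mul_mem hsQ hq) (inv_mem hsQ)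
    · by_contra h
      have h2 := hmul _ (mul_mem (mul_mem hs (hQS hq)) (inv_mem hs)) s hs h hsQ
      rw [inv_mul_cancel_right] at h2
      exact hsQ (by simpa using mul_mem h2 (inv_mem hq))
  -- Frattini argument: a lift of `φ x` normalizing Q
  set C0 := centralizer (D : Set G) with hC0
  have hC0N : C0 ≤ N := centralizer_le_normalizer _
  have hNC0 : ∀ n ∈ N, ∀ c ∈ C0, n * c * n⁻¹ ∈ C0 := by
    intro n hn c hc
    refine (hφker ⟨n * c * n⁻¹, mul_mem (mul_mem hn (hC0N hc)) (inv_mem hn)⟩).1 ?_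
    rw [show (⟨n * c * n⁻¹, mul_mem (mul_mem hn (hC0N hc)) (inv_mem hn)⟩ : N) =
      ⟨n, hn⟩ * ⟨c, hC0N hc⟩ * ⟨n, hn⟩⁻¹ from rfl, map_mul, map_mul, map_inv,
      (hφker ⟨c, hC0N hc⟩).2 hc, mul_one, mul_inv_cancel]
  have hQC0 : Q ≤ normalizer (C0 : Set G) := fun q hq => by
    rw [mem_normalizer_iff_map_conj_eq]
    refine Subgroup.eq_of_le_of_card_ge ?_ (Subgroup.card_map_of_injective (MulEquiv.injective _)).ge
    rintro _ ⟨c, hc, rfl⟩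
    exact hNC0 q (hQN hq) c hc
  set H := Q ⊔ C0 with hHdef
  have hHmem : ∀ h ∈ H, ∃ q ∈ Q, ∃ k ∈ C0, h = q * k := fun h hh => by
    rw [← SetLike.mem_coe, hHdef, coe_mul_of_left_le_normalizer_right Q C0 hQC0, Set.mem_mul] at hh
    obtain ⟨q, hq, k, hk, he⟩ := hh
    exact ⟨q, hq, k, hk, he.symm⟩
  have hHN : H ≤ N := sup_le hQN hC0N
  have hQp : IsPGroup 2 Q := S.isPGroup'.to_le hQS
  have hsylQ : IsSyl 2 Q H := by
    obtain ⟨T₀, hT₀, hQT⟩ := exists_isSyl_ge hQp (le_sup_left : Q ≤ H)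
    have hSsyl : IsSyl 2 (S : Subgroup G) N :=
      ⟨hSD, S.isPGroup', fun hd => S.not_dvd_index (hd.trans (relIndex_dvd_index_of_le hSD))⟩
    obtain ⟨h, hhN, hle⟩ := hSsyl.exists_cj_le hT₀.isPGroup (hT₀.le.trans hHN)
    have hTQ : T₀ ≤ Q := by
      intro τ hτ
      obtain ⟨q, hq, k, hk, rfl⟩ := hHmem τ (hT₀.le hτ)
      have hkT : k ∈ T₀ := by simpa using mul_mem (inv_mem (hQT hq)) hτ
      have h1 : h * k * h⁻¹ ∈ D := hC ⟨hle (conj_mem_cj hkT), hNC0 h hhN k hk⟩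
      exact mul_mem hq (hDQ ((mem_normalizer_iff.1 hhN k).2 h1))
    rwa [le_antisymm hTQ hQT] at hT₀
  have hxH : cj (x : G) H = H := by
    refine Subgroup.eq_of_le_of_card_ge ?_ (card_cj _ _).ge
    rintro _ ⟨h, hh, rfl⟩
    obtain ⟨q, hq, k, hk, rfl⟩ := hHmem h hh
    show (x : G) * (q * k) * (x : G)⁻¹ ∈ H
    have hqx : q⁻¹ * ((x : G) * q * (x : G)⁻¹) ∈ C0 := by
      refine (hφker (⟨q, hQN hq⟩⁻¹ * (x * ⟨q, hQN hq⟩ * x⁻¹))).1 ?_
      rw [map_mul, map_mul, map_mul, map_inv, map_inv, ← ((hmemQ ⟨q, hQN hq⟩).1 hq).1,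
        mul_inv_cancel_right, inv_mul_cancel]
    have h2 : q * ((q⁻¹ * ((x : G) * q * (x : G)⁻¹)) * ((x : G) * k * (x : G)⁻¹)) ∈ H :=
      mul_mem (mem_sup_left hq) (mem_sup_right (mul_mem hqx (hNC0 x x.2 k hk)))
    simpa [mul_assoc] using h2
  obtain ⟨h, hh, he⟩ := (hxH ▸ hsylQ.conj (x : G)).exists_cj_eq hsylQ
  rw [← cj_mul, cj_eq_self_iff] at he
  obtain ⟨q₀, hq₀, k, hk, rfl⟩ := hHmem h hh
  obtain ⟨n, hnQ, hnφ⟩ : ∃ n : N, (n : G) ∈ normalizer (Q : Set G) ∧ φ n = φ x := by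
    refine ⟨⟨k, hC0N hk⟩ * x, ?_, by rw [map_mul, (hφker ⟨k, hC0N hk⟩).2 hk, one_mul]⟩
    simpa [mul_assoc] using mul_mem (inv_mem (le_normalizer hq₀)) he
  -- ZQ
  set ZQ := Q ⊓ centralizer (Q : Set G) with hZQ
  have hZD : ZQ ≤ D := fun z hz => hC ⟨hQS hz.1, centralizer_le hDQ hz.2⟩
  have hcZ : ∀ s ∈ (S : Subgroup G), ∀ t ∈ (S : Subgroup G), ⁅s, t⁆ ∈ ZQ := fun s hs t ht =>
    ⟨hDQ (hcD s hs t ht), centralizer_le hQS (hcs s hs t ht).2⟩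
  have hconjZ : ∀ m ∈ normalizer (Q : Set G), ∀ z ∈ ZQ, m * z * m⁻¹ ∈ ZQ := by
    intro m hm z hz
    refine ⟨(mem_normalizer_iff.1 hm z).1 hz.1, mem_centralizer_iff.2 fun q hq => ?_⟩
    have h1 : m⁻¹ * q * m ∈ Q := by simpa using (mem_normalizer_iff.1 (inv_mem hm) q).1 hq
    calc q * (m * z * m⁻¹) = m * ((m⁻¹ * q * m) * z) * m⁻¹ := by group
      _ = m * (z * (m⁻¹ * q * m)) * m⁻¹ := by rw [mem_centralizer_iff.1 hz.2 _ h1]
      _ = m * z * m⁻¹ * q := by group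
  -- b and y
  set b : N := n * ⟨a, hSD haS⟩ * n⁻¹ * ⟨a, hSD haS⟩⁻¹ with hb
  have hbQ : (b : G) ∈ normalizer (Q : Set G) :=
    mul_mem (mul_mem (mul_mem hnQ (hSQ haS)) (inv_mem hnQ)) (inv_mem (hSQ haS))
  have hbmod : ∀ q ∈ Q, (b : G) * q * (b : G)⁻¹ * q⁻¹ ∈ ZQ := by
    intro q hq
    set q₁ := a⁻¹ * q * a with hq₁
    have hq₁Q : q₁ ∈ Q := by simpa using (mem_normalizer_iff.1 (inv_mem (hSQ haS)) q).1 hq
    set q₂ := (n : G)⁻¹ * q₁ * n with hq₂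
    have hq₂Q : q₂ ∈ Q := by simpa using (mem_normalizer_iff.1 (inv_mem hnQ) q₁).1 hq₁Q
    have h1 : (b : G) * q * (b : G)⁻¹ * q⁻¹ = ((n : G) * ⁅a, q₂⁆ * (n : G)⁻¹) * ⁅a⁻¹, q⁆ := by
      simp only [hb, hq₁, hq₂, Subgroup.coe_mul, Subgroup.coe_inv, commutatorElement_def]
      group
    rw [h1]
    exact mul_mem (hconjZ _ hnQ _ (hcZ a haS q₂ (hQS hq₂Q))) (hcZ a⁻¹ (inv_mem haS) q (hQS hq))
  have hbpow : ∀ i : ℕ, ((b : G) ^ i) ∈ normalizer (Q : Set G) ∧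
      ∀ q ∈ Q, (b : G) ^ i * q * ((b : G) ^ i)⁻¹ * q⁻¹ ∈ ZQ := by
    intro i
    induction i with
    | zero => exact ⟨by rw [pow_zero]; exact one_mem _, fun q _ => by simp⟩
    | succ i ih =>
      refine ⟨by rw [pow_succ]; exact mul_mem ih.1 hbQ, fun q hq => ?_⟩
      have h1 : (b : G) ^ (i + 1) * q * ((b : G) ^ (i + 1))⁻¹ * q⁻¹ =
          ((b : G) ^ i * ((b : G) * q * (b : G)⁻¹ * q⁻¹) * ((b : G) ^ i)⁻¹) *
            ((b : G) ^ i * q * ((b : G) ^ i)⁻¹ * q⁻¹) := by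
        rw [pow_succ]; group
      rw [h1]
      exact mul_mem (hconjZ _ ih.1 _ (hbmod q hq)) (ih.2 q hq)
  have hφb : φ b = φ x ^ 2 := by
    have h1 := hout a haS haQ
    have h2 : φ ⟨a, hSD haS⟩ * (φ x)⁻¹ * (φ ⟨a, hSD haS⟩)⁻¹ = φ x := by
      have h3 := congrArg (fun z => z⁻¹) h1
      simpa [mul_assoc] using h3
    rw [hb, map_mul, map_mul, map_mul, map_inv, map_inv, hnφ, pow_two]
    calc φ x * φ ⟨a, hSD haS⟩ * (φ x)⁻¹ * (φ ⟨a, hSD haS⟩)⁻¹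
        = φ x * (φ ⟨a, hSD haS⟩ * (φ x)⁻¹ * (φ ⟨a, hSD haS⟩)⁻¹) := by simp only [mul_assoc]
      _ = φ x * φ x := by rw [h2]
  obtain ⟨j, hj⟩ := CfsgLib.Transfer.exists_pow_coprime_orderOf (p := 2) (b : G)
  set y : G := (b : G) ^ 2 ^ j with hy
  have hyQ := (hbpow (2 ^ j)).1
  have hyδ : ∀ q ∈ Q, y * q * y⁻¹ * q⁻¹ ∈ ZQ := (hbpow (2 ^ j)).2
  set yN : N := b ^ 2 ^ j with hyN
  have hyNy : (yN : G) = y := Subgroup.coe_pow _ _ _
  have hφy : φ yN = φ x ^ (2 * 2 ^ j) := by rw [hyN, map_pow, hφb, ← pow_mul]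
  have hyC : y ∉ centralizer (D : Set G) := by
    intro h
    rw [← hyNy, ← hφker, hφy, ← pow_succ'] at h
    exact hx1 (orderOf_eq_one_iff.1 (Nat.eq_one_of_dvd_coprimes
      (Nat.Coprime.pow_right (j + 1) hxodd.coprime_two_right) dvd_rfl (orderOf_dvd_of_pow_eq_one h)))
  -- conjugation by elements outside Q
  have hinv : ∀ (s : G) (_ : s ∈ (S : Subgroup G)), s ∉ Q → ∀ d ∈ D,
      s * y * s⁻¹ * d * (s * y * s⁻¹)⁻¹ = y⁻¹ * d * y := by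
    intro s hs hsQ d hd
    have h1 : φ (⟨s, hSD hs⟩ * yN * ⟨s, hSD hs⟩⁻¹) = φ yN⁻¹ := by
      rw [map_mul, map_mul, map_inv, map_inv, hφy, ← conj_pow, hout s hs hsQ, inv_pow]
    have := hφeq _ _ h1 d hd
    simpa [hyNy] using this
  -- the subgroup U
  let δ : Q →* G :=
    { toFun := fun q => y * q * y⁻¹ * (q : G)⁻¹
      map_one' := by simp
      map_mul' := fun q r => by
        have h1 := mem_centralizer_iff.1 (hyδ r r.2).2 _ (inv_mem q.2)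
        calc y * ((q : G) * r) * y⁻¹ * ((q : G) * r)⁻¹
            = (y * q * y⁻¹) * ((y * r * y⁻¹ * (r : G)⁻¹) * (q : G)⁻¹) := by group
          _ = _ := by rw [← h1]; group }
  set U := δ.range with hU
  have hUZ : U ≤ ZQ := by rintro _ ⟨q, rfl⟩; exact hyδ q q.2
  have hUQ : U ≤ Q := fun u hu => (hUZ hu).1
  have hUD : U ≤ D := hUZ.trans hZD
  have hcommU : ∀ u ∈ U, ∀ q ∈ Q, u * q = q * u := fun u hu q hq =>
    (mem_centralizer_iff.1 (hUZ hu).2 q hq).symm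
  have hfixone : ∀ u ∈ U, y * u = u * y → u = 1 := by
    rintro _ ⟨q, rfl⟩ hfix
    have hpow : ∀ i : ℕ, y ^ i * (q : G) * (y ^ i)⁻¹ = δ q ^ i * q := by
      intro i
      induction i with
      | zero => simp
      | succ i ih =>
        have hci : y * δ q ^ i * y⁻¹ = δ q ^ i := by
          rw [mul_inv_eq_iff_eq_mul]
          exact (Commute.pow_right hfix i).eq
        calc y ^ (i + 1) * (q : G) * (y ^ (i + 1))⁻¹ = y * (y ^ i * q * (y ^ i)⁻¹) * y⁻¹ := by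
              rw [pow_succ']; group
          _ = (y * δ q ^ i * y⁻¹) * (y * q * y⁻¹ * (q : G)⁻¹) * q := by rw [ih]; group
          _ = _ := by rw [hci, pow_succ]; rfl
    have h1 := hpow (orderOf y)
    rw [pow_orderOf_eq_one, one_mul, inv_one, mul_one] at h1
    have h2 : δ q ^ orderOf y = 1 := right_eq_mul.1 h1
    obtain ⟨k, hk⟩ := IsPGroup.iff_orderOf.1 hQp ⟨δ q, (hyδ q q.2).1⟩
    rw [orderOf_mk] at hk
    exact orderOf_eq_one_iff.1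
      (Nat.eq_one_of_dvd_coprimes (Nat.Coprime.pow_right k hj) (orderOf_dvd_of_pow_eq_one h2) hk.dvd)
  have hsplit : ∀ q ∈ Q, ∃ u ∈ U, y * (q * u⁻¹) = q * u⁻¹ * y := by
    intro q hq
    have hinj : Function.Injective (fun u : U => (⟨δ ⟨u, hUQ u.2⟩, ⟨_, rfl⟩⟩ : U)) := by
      intro u v he
      have he' : δ ⟨u, hUQ u.2⟩ = δ ⟨v, hUQ v.2⟩ := congrArg Subtype.val he
      have h1 : δ (⟨u, hUQ u.2⟩ * ⟨v, hUQ v.2⟩⁻¹) = 1 := by
        rw [map_mul, map_inv, he', mul_inv_cancel]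
      have h2 := hfixone _ (mul_mem u.2 (inv_mem v.2))
        (mul_inv_eq_iff_eq_mul.1 (mul_inv_eq_one.1 h1))
      exact Subtype.ext (mul_inv_eq_one.1 h2)
    obtain ⟨u, hu⟩ := Finite.surjective_of_injective hinj ⟨δ ⟨q, hq⟩, ⟨_, rfl⟩⟩
    refine ⟨u, u.2, ?_⟩
    have h1 : δ (⟨q, hq⟩ * ⟨u, hUQ u.2⟩⁻¹) = 1 := by
      rw [map_mul, map_inv, show δ ⟨u, hUQ u.2⟩ = δ ⟨q, hq⟩ from congrArg Subtype.val hu,
        mul_inv_cancel]
    exact mul_inv_eq_iff_eq_mul.1 (mul_inv_eq_one.1 h1)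
  have hSU' : ∀ s ∈ (S : Subgroup G), ∀ u ∈ U, s * u * s⁻¹ ∈ U := by
    intro s hs u hu
    by_cases hsQ : s ∈ Q
    · rw [← hcommU u hu s hsQ, mul_inv_cancel_right]; exact hu
    obtain ⟨r, rfl⟩ := hu
    obtain ⟨u₀, hu₀, hfix⟩ := hsplit r r.2
    have hr : δ r = δ ⟨u₀, hUQ hu₀⟩ := by
      have h1 : δ (r * ⟨u₀, hUQ hu₀⟩⁻¹) = 1 := mul_inv_eq_one.2 (mul_inv_eq_iff_eq_mul.2 hfix)
      rwa [map_mul, map_inv, mul_inv_eq_one] at h1
    rw [hr]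
    set v₀ := s * u₀ * s⁻¹ with hv₀
    have hv₀Z : v₀ ∈ ZQ := hconjZ s (hSQ hs) u₀ (hUZ hu₀)
    have hr' : y⁻¹ * v₀⁻¹ * y ∈ ZQ := by
      have := hconjZ _ (inv_mem hyQ) _ (inv_mem hv₀Z)
      rwa [inv_inv] at this
    have h1 : s * δ ⟨u₀, hUQ hu₀⟩ * s⁻¹ = (y⁻¹ * v₀ * y) * v₀⁻¹ := by
      rw [← hinv s hs hsQ v₀ (hZD hv₀Z), hv₀]
      show s * (y * u₀ * y⁻¹ * u₀⁻¹) * s⁻¹ = _
      group
    have h2 : δ ⟨y⁻¹ * v₀⁻¹ * y, hr'.1⟩ = s * δ ⟨u₀, hUQ hu₀⟩ * s⁻¹ := by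
      rw [h1]
      show y * (y⁻¹ * v₀⁻¹ * y) * y⁻¹ * (y⁻¹ * v₀⁻¹ * y)⁻¹ = _
      have h3 := mem_centralizer_iff.1 hr'.2 v₀⁻¹ (inv_mem hv₀Z.1)
      calc y * (y⁻¹ * v₀⁻¹ * y) * y⁻¹ * (y⁻¹ * v₀⁻¹ * y)⁻¹
          = v₀⁻¹ * (y⁻¹ * v₀⁻¹ * y)⁻¹ := by group
        _ = (y⁻¹ * v₀⁻¹ * y)⁻¹ * (y⁻¹ * v₀⁻¹ * y * v₀⁻¹) * (y⁻¹ * v₀⁻¹ * y)⁻¹ := by group
        _ = (y⁻¹ * v₀⁻¹ * y)⁻¹ * (v₀⁻¹ * (y⁻¹ * v₀⁻¹ * y)) * (y⁻¹ * v₀⁻¹ * y)⁻¹ := by rw [h3]
        _ = _ := by group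
    exact ⟨_, h2⟩
  have hcU : ∀ u ∈ U, ∀ s ∈ (S : Subgroup G), ⁅u, s⁆ ∈ U := by
    intro u hu s hs
    have h1 := mul_mem hu (hSU' s hs _ (inv_mem hu))
    simpa [commutatorElement_def, mul_assoc] using h1
  set E := U ⊓ centralizer ((S : Subgroup G) : Set G) with hE
  have hcE : ∀ u ∈ U, ∀ s ∈ (S : Subgroup G), ⁅u, s⁆ ∈ E := fun u hu s hs =>
    ⟨hcU u hu s hs, (hcs u (hQS (hUQ hu)) s hs).2⟩
  have hfixE : ∀ s ∈ (S : Subgroup G), s ∉ Q → ∀ u ∈ U, u * s = s * u → u ∈ E := by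
    intro s hs hsQ u hu hc
    refine ⟨hu, mem_centralizer_iff.2 fun t ht => ?_⟩
    by_cases htQ : t ∈ Q
    · exact (hcommU u hu t htQ).symm
    · have h1 : u * (t * s) = t * s * u := hcommU u hu _ (hmul t ht s hs htQ hsQ)
      apply mul_right_cancel (b := s)
      calc t * u * s = t * (u * s) := mul_assoc _ _ _
        _ = t * s * u := by rw [hc, mul_assoc]
        _ = u * t * s := by rw [← h1, mul_assoc]
  have hEsq : ∀ u ∈ U, ∀ s ∈ (S : Subgroup G), s ∉ Q → ⁅u, s⁆ * ⁅u, s⁆ = 1 := by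
    intro u hu s hs hsQ
    have h2 : s * s ∈ Q := hmul s hs s hs hsQ hsQ
    have hc := mem_centralizer_iff.1 (hcs u (hQS (hUQ hu)) s hs).2 s hs
    have h4 := hcommU _ (inv_mem hu) _ h2
    set c := ⁅u, s⁆ with hcdef
    have hsu : s * u⁻¹ * s⁻¹ = u⁻¹ * c := by rw [hcdef, commutatorElement_def]; group
    have h5 : s * (s * u⁻¹ * s⁻¹) * s⁻¹ = u⁻¹ := by
      calc s * (s * u⁻¹ * s⁻¹) * s⁻¹ = (s * s * u⁻¹) * (s * s)⁻¹ := by group
        _ = u⁻¹ := by rw [← h4, mul_inv_cancel_right]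
    rw [hsu] at h5
    have h6 : u⁻¹ * (c * c) = u⁻¹ := by
      calc u⁻¹ * (c * c) = (s * u⁻¹ * s⁻¹) * (s * c * s⁻¹) := by
            rw [hsu, hc, mul_inv_cancel_right, mul_assoc]
        _ = s * (u⁻¹ * c) * s⁻¹ := by group
        _ = u⁻¹ := h5
    exact mul_eq_left.1 h6
  -- σ = commutation with a
  have hEle : E ≤ U := inf_le_left
  let σ : U →* G :=
    { toFun := fun u => ⁅(u : G), a⁆
      map_one' := by simp [commutatorElement_def]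
      map_mul' := fun u v => by
        show ⁅(u : G) * v, a⁆ = ⁅(u : G), a⁆ * ⁅(v : G), a⁆
        have h1 : (u : G) * ⁅(v : G), a⁆ = ⁅(v : G), a⁆ * u :=
          mem_centralizer_iff.1 (hcs v (hQS (hUQ v.2)) a haS).2 u (hQS (hUQ u.2))
        have h2 : ⁅(u : G), a⁆ * ⁅(v : G), a⁆ = ⁅(v : G), a⁆ * ⁅(u : G), a⁆ :=
          (hcommU _ (hcU v v.2 a haS) _ (hUQ (hcU u u.2 a haS))).symm
        calc ⁅(u : G) * v, a⁆ = (u : G) * ⁅(v : G), a⁆ * (u : G)⁻¹ * ⁅(u : G), a⁆ := by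
              simp only [commutatorElement_def]; group
          _ = ⁅(v : G), a⁆ * ⁅(u : G), a⁆ := by rw [h1, mul_inv_cancel_right]
          _ = _ := h2.symm }
  have hker : σ.ker = E.subgroupOf U := by
    ext u
    rw [MonoidHom.mem_ker, mem_subgroupOf]
    constructor
    · intro h
      exact hfixE a haS haQ u u.2 (commutatorElement_eq_one_iff_mul_comm.1 h)
    · intro h
      exact commutatorElement_eq_one_iff_mul_comm.2 (mem_centralizer_iff.1 h.2 a haS).symm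
  have hrange : σ.range ≤ E := by rintro _ ⟨u, rfl⟩; exact hcE u u.2 a haS
  have hyU : ∀ u ∈ U, y * u * y⁻¹ ∈ U := fun u hu => by
    simpa [δ] using mul_mem (show δ ⟨u, hUQ hu⟩ ∈ U from ⟨_, rfl⟩) hu
  let μ : E × E → U := fun p => ⟨p.1 * (y * p.2 * y⁻¹), mul_mem (hEle p.1.2) (hyU _ (hEle p.2.2))⟩
  have hEy : ∀ e ∈ E, y * e * y⁻¹ ∈ E → e = 1 := by
    intro e he he'
    refine hfixone e he.1 ?_
    have h1 := hinv a haS haQ e (hUD he.1)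
    have ha1 := mem_centralizer_iff.1 he.2 a haS
    have ha2 := mem_centralizer_iff.1 he'.2 a haS
    have h2 : a * y * a⁻¹ * e * (a * y * a⁻¹)⁻¹ = y * e * y⁻¹ := by
      have h3 : a⁻¹ * e * a = e := by rw [mul_assoc, ← ha1, inv_mul_cancel_left]
      calc a * y * a⁻¹ * e * (a * y * a⁻¹)⁻¹ = a * (y * (a⁻¹ * e * a) * y⁻¹) * a⁻¹ := by group
        _ = y * e * y⁻¹ := by rw [h3, ha2, mul_inv_cancel_right]
    have h4 : y ^ 2 * e = e * y ^ 2 := by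
      calc y ^ 2 * e = y * (y * e * y⁻¹) * y := by rw [pow_two]; group
        _ = y * (y⁻¹ * e * y) * y := by rw [← h2, h1]
        _ = e * y ^ 2 := by rw [pow_two]; group
    obtain ⟨i, hi⟩ := exists_pow_eq_self_of_coprime hj.symm
    have h5 := (Commute.pow_left (show Commute (y ^ 2) e from h4) i).eq
    rwa [hi] at h5
  have hμ : Function.Injective μ := by
    rintro ⟨e, f⟩ ⟨e', f'⟩ h
    have h' : (e : G) * (y * f * y⁻¹) = e' * (y * f' * y⁻¹) := congrArg Subtype.val h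
    have h1 : y * ((f : G) * (f' : G)⁻¹) * y⁻¹ = (e : G)⁻¹ * e' := by
      calc y * ((f : G) * (f' : G)⁻¹) * y⁻¹
          = (e : G)⁻¹ * ((e : G) * (y * f * y⁻¹)) * (y * f' * y⁻¹)⁻¹ := by group
        _ = _ := by rw [h']; group
    have h2 := hEy _ (mul_mem f.2 (inv_mem f'.2)) (h1 ▸ mul_mem (inv_mem e.2) e'.2)
    rw [mul_inv_eq_one] at h2
    rw [h2] at h'
    exact Prod.ext (Subtype.ext (mul_right_cancel h')) (Subtype.ext h2)
  have hcard1 : Nat.card E * Nat.card E ≤ Nat.card U := by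
    rw [← Nat.card_prod]; exact Nat.card_le_card_of_injective μ hμ
  have hcard2 : Nat.card U = Nat.card E * Nat.card σ.range := by
    have h1 := card_mul_index σ.ker
    rw [index_ker, hker, Nat.card_congr (subgroupOfEquivOfLe hEle).toEquiv] at h1
    exact h1.symm
  have hcard3 : Nat.card E ≤ Nat.card σ.range :=
    Nat.le_of_mul_le_mul_left (hcard2 ▸ hcard1) Nat.card_pos
  have hrE : σ.range = E := Subgroup.eq_of_le_of_card_ge hrange hcard3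
  have hbij : Function.Bijective μ := by
    refine hμ.bijective_of_nat_card_le ?_
    rw [Nat.card_prod, hcard2, hrE]
  have hinvE : ∀ e ∈ E, e * e = 1 := fun e he => by
    obtain ⟨u, rfl⟩ := (hrE.ge he : e ∈ σ.range)
    exact hEsq u u.2 a haS haQ
  have hinvU : ∀ u ∈ U, u * u = 1 := by
    intro u hu
    obtain ⟨⟨e, f⟩, hef⟩ := hbij.2 ⟨u, hu⟩
    have hu' : (e : G) * (y * f * y⁻¹) = u := congrArg Subtype.val hef
    rw [← hu']
    have h1 := hcommU e (hEle e.2) _ (hUQ (hyU f (hEle f.2)))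
    calc (e : G) * (y * f * y⁻¹) * (e * (y * f * y⁻¹))
        = (e : G) * ((y * f * y⁻¹) * e) * (y * f * y⁻¹) := by group
      _ = ((e : G) * e) * (y * ((f : G) * f) * y⁻¹) := by rw [← h1]; group
      _ = 1 := by rw [hinvE _ e.2, hinvE _ f.2]; group
  have hUne : ∃ u ∈ U, u ≠ 1 := by
    by_contra hcon
    push Not at hcon
    refine hyC (mem_centralizer_iff.2 fun d hd => ?_)
    exact (mul_inv_eq_iff_eq_mul.1 (mul_inv_eq_one.1 (hcon (δ ⟨d, hDQ hd⟩) ⟨_, rfl⟩))).symm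
  have hyne : ∃ u ∈ U, y * u ≠ u * y := by
    obtain ⟨u, hu, hu1⟩ := hUne
    exact ⟨u, hu, fun h => hu1 (hfixone u hu h)⟩
  have hnontriv : ∃ u ∈ U, u ∉ E := by
    by_contra hcon
    push Not at hcon
    obtain ⟨u, hu, hu1⟩ := hUne
    exact hu1 (hEy u (hcon u hu) (hcon _ (hyU u hu)))
  have hkey : ∀ q ∈ Q, q ∈ U → (y * q = q * y) → q = 1 := fun q _ hqU h => hfixone q hqU h
  refine ⟨Q, U, E, y, ⟨hQS, hUQ, hEle, ?_, ⟨a, haS, haQ⟩, hmul, hnontriv, hcE, hcommU, ?_, ?_,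
    hinvU, ?_, ?_⟩, hj, fun q hq => ⟨⟨q, hq⟩, rfl⟩, hyne⟩
  · intro s hs
    rw [mem_normalizer_iff_map_conj_eq]
    refine Subgroup.eq_of_le_of_card_ge ?_ (Subgroup.card_map_of_injective (MulEquiv.injective _)).ge
    rintro _ ⟨u, hu, rfl⟩
    exact hSU' s hs u hu
  · exact fun u hu huE s hs hsQ h => huE (hfixE s hs hsQ u hu h)
  · intro s hs hsQ e he
    obtain ⟨u, hu⟩ := (hrE.ge he : e ∈ σ.range)
    refine ⟨u, u.2, ?_⟩
    rw [← hu]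
    show ⁅(u : G), s⁆ = ⁅(u : G), a⁆
    have has : a⁻¹ * s ∈ Q := by
      have h1 := hmul a⁻¹ (inv_mem haS) s hs (fun h => haQ (by simpa using inv_mem h)) hsQ
      exact h1
    have h2 := hcommU _ (inv_mem u.2) _ has
    calc ⁅(u : G), s⁆ = (u : G) * a * ((a⁻¹ * s) * (u : G)⁻¹) * (a⁻¹ * s)⁻¹ * a⁻¹ := by
          simp only [commutatorElement_def]; group
      _ = _ := by rw [← h2, commutatorElement_def]; group
  · intro q hq hqU
    obtain ⟨u, hu, hfix⟩ := hsplit q hq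
    set c := q * u⁻¹ with hcdef
    have hcQ : c ∈ Q := mul_mem hq (inv_mem (hUQ hu))
    have hqc : q = c * u := by rw [hcdef, inv_mul_cancel_right]
    have hqq : q * q = c * c := by
      rw [hqc]
      calc c * u * (c * u) = c * (u * c) * u := by group
        _ = c * c * (u * u) := by rw [hcommU u hu c hcQ]; group
        _ = c * c := by rw [hinvU u hu, mul_one]
    rw [hqq] at hqU ⊢
    exact hkey _ (mul_mem hcQ hcQ) hqU (Commute.mul_right hfix hfix).eq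
  · intro q hq q' hq' hqU
    obtain ⟨u, hu, hfix⟩ := hsplit q hq
    obtain ⟨u', hu', hfix'⟩ := hsplit q' hq'
    set c := q * u⁻¹ with hcdef
    set c' := q' * u'⁻¹ with hcdef'
    have hcQ : c ∈ Q := mul_mem hq (inv_mem (hUQ hu))
    have hcQ' : c' ∈ Q := mul_mem hq' (inv_mem (hUQ hu'))
    have hqq : ⁅q, q'⁆ = ⁅c, c'⁆ := by
      have e1 : q = c * u := by rw [hcdef, inv_mul_cancel_right]
      have e2 : q' = c' * u' := by rw [hcdef', inv_mul_cancel_right]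
      have k1 := hcommU u hu (c' * u') (mul_mem hcQ' (hUQ hu'))
      have k2 := hcommU u' hu' c⁻¹ (inv_mem hcQ)
      rw [e1, e2]
      calc ⁅c * u, c' * u'⁆ = c * (u * (c' * u')) * u⁻¹ * c⁻¹ * (c' * u')⁻¹ := by
            simp only [commutatorElement_def]; group
        _ = c * c' * (u' * c⁻¹) * u'⁻¹ * c'⁻¹ := by rw [k1]; group
        _ = ⁅c, c'⁆ := by rw [k2, commutatorElement_def]; group
    rw [hqq] at hqU ⊢
    refine hkey _ (mul_mem (mul_mem (mul_mem hcQ hcQ') (inv_mem hcQ)) (inv_mem hcQ')) hqU ?_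
    have k : Commute y c := hfix
    have k' : Commute y c' := hfix'
    rw [commutatorElement_def]
    exact (((k.mul_right k').mul_right k.inv_right).mul_right k'.inv_right).eq

end CfsgLib.NilMaxAct
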