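import Mathlib
import Cfsg.Agent.Lib.Fusion.FrobeniusCriterion
import Cfsg.Agent.Lib.PNilpotent.Basic
import Cfsg.Agent.Lib.Solvable.CoprimeMulAction
import Cfsg.Agent.Lib.Transfer.PGroup
import Cfsg.Agent.Lib.ConjFunctor.Basic

/-!
# An inverted automorphism of a centric subgroup in a 2-group of class at most two
-/

set_option autoImplicit false

namespace CfsgLib.NilMaxAct

open Subgroup
open scoped commutatorElement

variable {G : Type*} [Group G] [Finite G]

/-- An abelian group acting on an odd group with squares trivial and without fixed points fixes or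
inverts some nontrivial element. -/
theorem exists_fixed_or_inverted {H : Type*} [Group H] [Finite H] {O T : Subgroup H} [O.Normal]
    (hO : Odd (Nat.card O)) (hT : ∀ s ∈ T, ∀ t ∈ T, s * t = t * s)
    (hsq : ∀ t ∈ T, ∀ o ∈ O, t * t * o = o * (t * t))
    (hfix : ∀ o ∈ O, (∀ t ∈ T, t * o = o * t) → o = 1) (hne : O ≠ ⊥) :
    ∃ x ∈ O, x ≠ 1 ∧ (∀ t ∈ T, t * x = x * t ∨ t * x * t⁻¹ = x⁻¹) ∧
      ∃ t ∈ T, t * x * t⁻¹ = x⁻¹ := by
  classical
  obtain ⟨R, -, ⟨hRT, x, hx, hx1, hxR⟩, hmax⟩ := Finite.exists_le_maximal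
    (p := fun R : Subgroup H => R ≤ T ∧ ∃ o ∈ O, o ≠ 1 ∧ ∀ t ∈ R, t * o = o * t) (a := ⊥)
    ⟨bot_le, by
      obtain ⟨o, ho, ho1⟩ := (O.bot_or_exists_ne_one).resolve_left hne
      exact ⟨o, ho, ho1, fun t ht => by rw [mem_bot.1 ht, one_mul, mul_one]⟩⟩
  have key : ∀ t ∈ T, t ∉ R → t * x * t⁻¹ = x⁻¹ := by
    intro t ht htR
    let F : Subgroup H :=
      { carrier := {o | o ∈ O ∧ ∀ r ∈ R, r * o = o * r}
        one_mem' := ⟨one_mem _, fun r _ => by rw [mul_one, one_mul]⟩
        mul_mem' := fun {a b} ha hb => ⟨mul_mem ha.1 hb.1, fun r hr => by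
          rw [← mul_assoc, ha.2 r hr, mul_assoc, hb.2 r hr, mul_assoc]⟩
        inv_mem' := fun {a} ha => ⟨inv_mem ha.1, fun r hr => by
          apply mul_left_cancel (a := a)
          rw [← mul_assoc, ← ha.2 r hr, mul_assoc, mul_inv_cancel, ← mul_assoc, mul_inv_cancel,
            one_mul, mul_one]⟩ }
    have hconj : ∀ o ∈ F, t * o * t⁻¹ ∈ F := fun o ho =>
      ⟨‹O.Normal›.conj_mem o ho.1 t, fun r hr => by
        have e := hT r (hRT hr) t ht
        have e' : t⁻¹ * r = r * t⁻¹ := by
          apply mul_left_cancel (a := t)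
          rw [← mul_assoc, mul_inv_cancel, one_mul, ← mul_assoc, ← e, mul_assoc, mul_inv_cancel,
            mul_one]
        calc r * (t * o * t⁻¹) = (r * t) * o * t⁻¹ := by group
          _ = t * (r * o) * t⁻¹ := by rw [e]; group
          _ = t * o * (r * t⁻¹) := by rw [ho.2 r hr]; group
          _ = t * o * t⁻¹ * r := by rw [← e']; group⟩
    have hfpf : ∀ o ∈ F, t * o = o * t → o = 1 := by
      intro o ho hto
      by_contra ho1
      refine htR (hmax (y := R ⊔ zpowers t) ⟨sup_le hRT (zpowers_le.2 ht), o, ho.1, ho1, ?_⟩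
        le_sup_left (mem_sup_right (mem_zpowers t)))
      intro r hr
      have hle : R ⊔ zpowers t ≤ centralizer {o} := sup_le
        (fun r hr => mem_centralizer_singleton_iff.2 (ho.2 r hr))
        (zpowers_le.2 (mem_centralizer_singleton_iff.2 hto))
      exact mem_centralizer_singleton_iff.1 (hle hr)
    let ψ : F → F := fun y => ⟨(y : H)⁻¹ * (t * y * t⁻¹), mul_mem (inv_mem y.2) (hconj _ y.2)⟩
    have hinj : Function.Injective ψ := by
      intro a b hab
      have e : (a : H)⁻¹ * (t * a * t⁻¹) = (b : H)⁻¹ * (t * b * t⁻¹) := congrArg Subtype.val hab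
      have h1 : (b : H) * (a : H)⁻¹ = 1 := by
        refine hfpf _ (mul_mem b.2 (inv_mem a.2)) ?_
        have h2 := congrArg (fun z => (b : H) * z * (t * (a : H)⁻¹)) e
        simpa [mul_assoc] using h2.symm
      exact Subtype.ext (mul_inv_eq_one.1 h1).symm
    obtain ⟨y, hy⟩ := Finite.surjective_of_injective hinj ⟨x, hx, hxR⟩
    have e : (y : H)⁻¹ * (t * y * t⁻¹) = x := congrArg Subtype.val hy
    rw [← e]
    have h2 := hsq t ht _ y.2.1
    calc t * ((y : H)⁻¹ * (t * y * t⁻¹)) * t⁻¹
        = (t * (y : H)⁻¹ * t⁻¹) * ((t * t * y) * (t * t)⁻¹) := by group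
      _ = ((y : H)⁻¹ * (t * y * t⁻¹))⁻¹ := by rw [h2]; group
  refine ⟨x, hx, hx1, fun t ht => ?_, ?_⟩
  · by_cases htR : t ∈ R
    · exact Or.inl (hxR t htR)
    · exact Or.inr (key t ht htR)
  · by_contra hno
    push Not at hno
    refine hx1 (hfix x hx fun t ht => ?_)
    by_cases htR : t ∈ R
    · exact hxR t htR
    · exact absurd (key t ht htR) (hno t ht)

/-- The automorphisms of a group acting trivially on its Frattini quotient. -/
def frattiniStab (K : Type*) [Group K] : Subgroup (MulAut K) where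
  carrier := {f | ∀ k : K, k⁻¹ * f k ∈ frattini K}
  one_mem' k := by simp
  mul_mem' := fun {a b} ha hb k => by
    have h := mul_mem (hb k) (ha (b k))
    rwa [mul_assoc, mul_inv_cancel_left] at h
  inv_mem' := fun {a} ha k => by
    have h := inv_mem (ha (a⁻¹ k))
    rw [MulAut.apply_inv_self, mul_inv_rev, inv_inv] at h
    exact h

theorem conj_mem_frattiniStab {K : Type*} [Group K] {f : MulAut K} (hf : f ∈ frattiniStab K)
    (χ : MulAut K) : χ * f * χ⁻¹ ∈ frattiniStab K := by
  intro k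
  have h := hf (χ⁻¹ k)
  have e : k⁻¹ * (χ * f * χ⁻¹) k = χ ((χ⁻¹ k)⁻¹ * f (χ⁻¹ k)) := by
    rw [map_mul, map_inv, MulAut.apply_inv_self]
    rfl
  rw [e]
  exact frattini_le_comap_frattini_of_surjective (φ := χ.toMonoidHom) χ.surjective h

/-- An automorphism of odd order of a 2-group, trivial on the Frattini quotient, is trivial. -/
theorem eq_one_of_mem_frattiniStab {K : Type*} [Group K] [Finite K] (hK : IsPGroup 2 K)
    {f : MulAut K} (hf : f ∈ frattiniStab K) (hodd : Odd (orderOf f)) : f = 1 := by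
  have hcop : (Nat.card (zpowers f)).Coprime (Nat.card (frattini K)) := by
    obtain ⟨k, hk⟩ := IsPGroup.iff_card.1 hK
    obtain ⟨j, -, hj⟩ := (Nat.dvd_prime_pow Nat.prime_two).1 (hk ▸ card_subgroup_dvd_card (frattini K))
    rw [Nat.card_zpowers, hj]
    exact Nat.Coprime.pow_right _ hodd.coprime_two_right
  ext k
  exact CfsgLib.Solvable.smul_eq_self_of_trivial_on_frattini_quotient (A := zpowers f) hcop
    (fun a k => (zpowers_le.2 hf a.2 : (a : MulAut K) ∈ frattiniStab K) k)
    ⟨f, mem_zpowers f⟩ k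

variable {S : Sylow 2 G}

/-- The action on `D` of the image of a Sylow 2-subgroup of class at most two. -/
theorem exists_inverted {D : Subgroup G} (hDS : D ≤ (S : Subgroup G))
    (hcl : ∀ a ∈ (S : Subgroup G), ∀ b ∈ (S : Subgroup G), ∀ c ∈ (S : Subgroup G), Commute ⁅a, b⁆ c)
    (hNS : Cfsg.HasNormalPComplement 2 (normalizer ((S : Subgroup G) : Set G)))
    (hSD : (S : Subgroup G) ≤ normalizer (D : Set G))
    {g : normalizer (D : Set G)} (hg : Odd (orderOf g)) (hgn : D.normalizerMonoidHom g ≠ 1) :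
    ∃ x : normalizer (D : Set G), D.normalizerMonoidHom x ≠ 1 ∧
      Odd (orderOf (D.normalizerMonoidHom x)) ∧
      (∀ s : normalizer (D : Set G), (s : G) ∈ (S : Subgroup G) →
        D.normalizerMonoidHom s * D.normalizerMonoidHom x =
          D.normalizerMonoidHom x * D.normalizerMonoidHom s ∨
        D.normalizerMonoidHom s * D.normalizerMonoidHom x * (D.normalizerMonoidHom s)⁻¹ =
          (D.normalizerMonoidHom x)⁻¹) ∧
      (∀ s : normalizer (D : Set G), (s : G) ∈ D →
        D.normalizerMonoidHom s * D.normalizerMonoidHom x =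
          D.normalizerMonoidHom x * D.normalizerMonoidHom s) ∧
      ∃ s : normalizer (D : Set G), (s : G) ∈ (S : Subgroup G) ∧
        D.normalizerMonoidHom s * D.normalizerMonoidHom x * (D.normalizerMonoidHom s)⁻¹ =
          (D.normalizerMonoidHom x)⁻¹ := by
  classical
  set φ := D.normalizerMonoidHom with hφ
  set Lt := φ.range
  set f := φ.rangeRestrict with hf
  have hfs : Function.Surjective f := φ.rangeRestrict_surjective
  set P : Sylow 2 (normalizer (D : Set G)) := S.subtype hSD with hP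
  set T : Sylow 2 Lt := P.mapSurjective hfs with hTdef
  have hTc : (T : Subgroup Lt) = (P : Subgroup _).map f := Sylow.coe_mapSurjective _ _
  have hPmem : ∀ s : normalizer (D : Set G), s ∈ (P : Subgroup _) ↔ (s : G) ∈ (S : Subgroup G) :=
    fun s => Iff.rfl
  have habel : ∀ s ∈ (T : Subgroup Lt), ∀ t ∈ (T : Subgroup Lt), s * t = t * s := by
    rw [hTc]
    rintro _ ⟨s, hs, rfl⟩ _ ⟨t, ht, rfl⟩
    rw [← map_mul, ← map_mul]
    apply Subtype.ext
    show φ (s * t) = φ (t * s)
    refine MulEquiv.ext fun d => Subtype.ext ?_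
    show ((s * t : normalizer (D : Set G)) : G) * d * ((s * t : normalizer (D : Set G)) : G)⁻¹ =
      ((t * s : normalizer (D : Set G)) : G) * d * ((t * s : normalizer (D : Set G)) : G)⁻¹
    have h1 : Commute ⁅(s : G), (t : G)⁆ ((t : G) * s * d * ((t : G) * s)⁻¹) :=
      hcl _ hs _ ht _ (mul_mem (mul_mem (mul_mem ht hs) (hDS d.2)) (inv_mem (mul_mem ht hs)))
    calc ((s * t : normalizer (D : Set G)) : G) * d * ((s * t : normalizer (D : Set G)) : G)⁻¹
        = ⁅(s : G), (t : G)⁆ * ((t : G) * s * d * ((t : G) * s)⁻¹) * ⁅(s : G), (t : G)⁆⁻¹ := by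
          simp only [Subgroup.coe_mul, commutatorElement_def]; group
      _ = _ := by rw [h1.eq, mul_inv_cancel_right]; rfl
  -- `T` is self-normalizing in the image
  have hself : normalizer ((T : Subgroup Lt) : Set Lt) ≤ (T : Subgroup Lt) := by
    intro z hz
    obtain ⟨n, rfl⟩ := hfs z
    set H : Subgroup (normalizer (D : Set G)) := (T : Subgroup Lt).comap f with hH
    have hPH : (P : Subgroup _) ≤ H := fun s hs => by
      rw [hH, mem_comap, hTc]; exact mem_map_of_mem _ hs
    have hPsyl : CfsgLib.ConjFunctor.IsSyl 2 (P : Subgroup _) H :=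
      ⟨hPH, P.isPGroup', fun hd => P.not_dvd_index (hd.trans (relIndex_dvd_index_of_le hPH))⟩
    have hnH : CfsgLib.ConjFunctor.cj n H = H := by
      apply le_antisymm
      · intro x hx
        rw [CfsgLib.ConjFunctor.mem_cj, hH, mem_comap, map_mul, map_mul, map_inv] at hx
        rw [hH, mem_comap]
        have := (mem_normalizer_iff.1 hz _).1 hx
        simpa [mul_assoc] using this
      · intro x hx
        rw [CfsgLib.ConjFunctor.mem_cj, hH, mem_comap, map_mul, map_mul, map_inv]
        have := (mem_normalizer_iff.1 (inv_mem hz) _).1 hx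
        simpa [mul_assoc] using this
    obtain ⟨h, hh, he⟩ := (hnH ▸ hPsyl.conj n).exists_cj_eq hPsyl
    rw [← CfsgLib.ConjFunctor.cj_mul, CfsgLib.ConjFunctor.cj_eq_self_iff] at he
    have hNS' : ((h * n : normalizer (D : Set G)) : G) ∈ normalizer ((S : Subgroup G) : Set G) := by
      rw [mem_normalizer_iff_map_conj_eq]
      refine Subgroup.eq_of_le_of_card_ge ?_ (Subgroup.card_map_of_injective (MulEquiv.injective _)).ge
      rintro _ ⟨y, hy, rfl⟩
      exact (mem_normalizer_iff.1 he ⟨y, hSD hy⟩).1 hy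
    obtain ⟨a, b, hab, ⟨k, hk⟩, hb⟩ :=
      CfsgLib.PNilpotent.exists_pPart_decomp (p := 2) ((h * n : normalizer (D : Set G)) : G)
    have haS : ((h * n : normalizer (D : Set G)) : G) ^ a ∈ (S : Subgroup G) := by
      have h1 : IsPGroup 2 (zpowers (((h * n : normalizer (D : Set G)) : G) ^ a)) :=
        IsPGroup.of_card (n := k) (by rw [Nat.card_zpowers, hk])
      have h2 : zpowers (((h * n : normalizer (D : Set G)) : G) ^ a) ≤
          zpowers (((h * n : normalizer (D : Set G)) : G) ^ a) ⊓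
            normalizer ((S : Subgroup G) : Set G) :=
        le_inf le_rfl (zpowers_le.2 (pow_mem hNS' a))
      exact ((h1.inf_normalizer_sylow S).le (h2 (mem_zpowers _))).2
    have hbC := CfsgLib.NPC.mem_centralizer_of_hasNormalPComplement S.isPGroup' hNS
      (pow_mem hNS' b) hb
    have hfb : f ((h * n) ^ b) = 1 := by
      apply Subtype.ext
      show φ ((h * n) ^ b) = 1
      refine MulEquiv.ext fun d => Subtype.ext ?_
      show (((h * n) ^ b : normalizer (D : Set G)) : G) * d *
        (((h * n) ^ b : normalizer (D : Set G)) : G)⁻¹ = d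
      rw [Subgroup.coe_pow, ← mem_centralizer_iff.1 hbC d (hDS d.2), mul_inv_cancel_right]
    have hfn : f (h * n) ∈ (T : Subgroup Lt) := by
      have e : h * n = (h * n) ^ a * (h * n) ^ b := Subtype.ext (by
        simp only [Subgroup.coe_mul, Subgroup.coe_pow] at hab ⊢; exact hab.symm)
      rw [e, map_mul, hfb, mul_one]
      exact hPH (show ((h * n) ^ a) ∈ (P : Subgroup _) by rw [hPmem, Subgroup.coe_pow]; exact haS)
    rw [map_mul] at hfn
    exact (mul_mem_cancel_left (show f h ∈ (T : Subgroup Lt) from hh)).1 hfn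
  -- Burnside's transfer theorem
  have hTC : normalizer ((T : Subgroup Lt) : Set Lt) ≤ centralizer ((T : Subgroup Lt) : Set Lt) :=
    fun z hz => mem_centralizer_iff.2 fun t ht => habel t ht z (hself hz)
  set O := (MonoidHom.transferSylow T hTC).ker with hO
  have hc : O.IsComplement' (T : Subgroup Lt) := MonoidHom.ker_transferSylow_isComplement' T hTC
  have hOodd : Odd (Nat.card O) := by
    rw [← hc.index_eq_card, ← Nat.not_even_iff_odd, even_iff_two_dvd]
    exact T.not_dvd_index
  have hOT : ∀ z ∈ O, z ∈ (T : Subgroup Lt) → z = 1 := fun z h1 h2 =>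
    Subgroup.disjoint_def.1 hc.disjoint h1 h2
  have hne : O ≠ ⊥ := by
    intro hb
    refine hgn ?_
    have hall : f g ∈ (T : Subgroup Lt) := by
      have := hc.sup_eq_top
      rw [hb, bot_sup_eq] at this
      rw [this]; exact mem_top _
    obtain ⟨k, hk⟩ := IsPGroup.iff_orderOf.1 T.isPGroup' ⟨f g, hall⟩
    rw [orderOf_mk] at hk
    have h1 : orderOf (f g) = 1 := by
      refine Nat.eq_one_of_dvd_coprimes (Nat.Coprime.pow_right k hg.coprime_two_right)
        (orderOf_map_dvd f g) hk.dvd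
    exact congrArg Subtype.val (orderOf_eq_one_iff.1 h1)
  have hD2 : IsPGroup 2 D := S.isPGroup'.to_le hDS
  have hsq : ∀ t ∈ (T : Subgroup Lt), ∀ o ∈ O, t * t * o = o * (t * t) := by
    intro t ht o ho
    have htt : ((t * t : Lt) : MulAut D) ∈ frattiniStab D := by
      rw [hTc] at ht
      obtain ⟨s, hs', rfl⟩ := ht
      have hs : (s : G) ∈ (S : Subgroup G) := hs'
      intro d
      have hc1 : ⁅(s : G), (d : G)⁆ ∈ D := by
        rw [commutatorElement_def]
        exact mul_mem ((mem_normalizer_iff.1 s.2 d).1 d.2) (inv_mem d.2)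
      have hcs := (hcl _ hs _ (hDS d.2) _ hs).eq
      have hcd := (hcl _ hs _ (hDS d.2) _ (hDS d.2)).eq
      have e : d⁻¹ * ((f s * f s : Lt) : MulAut D) d = (⟨_, hc1⟩ : D) ^ 2 := by
        apply Subtype.ext
        show (d : G)⁻¹ * ((s : G) * ((s : G) * d * (s : G)⁻¹) * (s : G)⁻¹) = ⁅(s : G), (d : G)⁆ ^ 2
        have hsd : (s : G) * d * (s : G)⁻¹ = ⁅(s : G), (d : G)⁆ * d := by
          rw [commutatorElement_def]; group
        rw [hsd]
        generalize ⁅(s : G), (d : G)⁆ = c at hcs hcd hsd ⊢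
        calc (d : G)⁻¹ * ((s : G) * (c * d) * (s : G)⁻¹)
            = (d : G)⁻¹ * (((s : G) * c * (s : G)⁻¹) * ((s : G) * d * (s : G)⁻¹)) := by group
          _ = (d : G)⁻¹ * (c * (c * d)) := by rw [hsd, ← hcs, mul_inv_cancel_right]
          _ = (d : G)⁻¹ * (d * (c * c)) := by rw [hcd, ← mul_assoc c, hcd, mul_assoc]
          _ = c ^ 2 := by rw [pow_two]; group
      rw [e]
      exact CfsgLib.Transfer.pow_mem_frattini hD2 _
    set c := o * (t * t) * o⁻¹ * (t * t)⁻¹ with hc'
    have hcO : c ∈ O := by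
      have h2 := mul_mem ho ((inferInstance : O.Normal).conj_mem _ (inv_mem ho) (t * t))
      rw [hc']
      simpa [mul_assoc] using h2
    have hcF : (c : MulAut D) ∈ frattiniStab D := by
      rw [hc', Subgroup.coe_mul, Subgroup.coe_mul, Subgroup.coe_mul, Subgroup.coe_inv,
        Subgroup.coe_inv]
      exact mul_mem (conj_mem_frattiniStab htt _) (inv_mem htt)
    have h1 : (c : MulAut D) = 1 := eq_one_of_mem_frattiniStab hD2 hcF
      (by rw [Subgroup.orderOf_coe]; exact hOodd.of_dvd_nat (Subgroup.orderOf_dvd_natCard _ hcO))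
    have h2 : c = 1 := Subtype.ext h1
    rw [hc', mul_inv_eq_one, mul_inv_eq_iff_eq_mul] at h2
    exact h2.symm
  have hfix : ∀ o ∈ O, (∀ t ∈ (T : Subgroup Lt), t * o = o * t) → o = 1 := by
    intro o ho hcomm
    refine hOT o ho (hself (centralizer_le_normalizer _ (mem_centralizer_iff.2 fun t ht => hcomm t ht)))
  obtain ⟨x, hxO, hx1, hxT, s₀, hs₀, hs₀x⟩ := exists_fixed_or_inverted hOodd habel hsq hfix hne
  obtain ⟨x', rfl⟩ := hfs x
  have hfP : ∀ s : normalizer (D : Set G), (s : G) ∈ (S : Subgroup G) → f s ∈ (T : Subgroup Lt) :=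
    fun s hs => by rw [hTc]; exact mem_map_of_mem _ hs
  refine ⟨x', fun h => hx1 (Subtype.ext h), ?_, ?_, ?_, ?_⟩
  · have : orderOf (φ x') = orderOf (f x') := (Subgroup.orderOf_coe (f x')).symm ▸ rfl
    rw [this]
    exact hOodd.of_dvd_nat (Subgroup.orderOf_dvd_natCard _ hxO)
  · intro s hs
    rcases hxT _ (hfP s hs) with h | h
    · exact Or.inl (congrArg Subtype.val h)
    · exact Or.inr (congrArg Subtype.val h)
  · intro s hs
    have h1 : f x' * f s * (f x')⁻¹ * (f s)⁻¹ ∈ O := by
      have h2 := mul_mem hxO ((inferInstance : O.Normal).conj_mem _ (inv_mem hxO) (f s))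
      simpa [mul_assoc] using h2
    have h2 : f x' * f s * (f x')⁻¹ * (f s)⁻¹ ∈ (T : Subgroup Lt) := by
      refine mul_mem ?_ (inv_mem (hfP s (hDS hs)))
      rw [← map_inv, ← map_mul, ← map_mul]
      refine hfP _ (hDS ?_)
      simp only [Subgroup.coe_mul, Subgroup.coe_inv]
      exact (mem_normalizer_iff.1 x'.2 s).1 hs
    have h3 := hOT _ h1 h2
    rw [mul_inv_eq_one, mul_inv_eq_iff_eq_mul] at h3
    exact (congrArg Subtype.val h3).symm
  · rw [hTc] at hs₀
    obtain ⟨s, hs, rfl⟩ := hs₀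
    exact ⟨s, hs, congrArg Subtype.val hs₀x⟩

end CfsgLib.NilMaxAct
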