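import Cfsg.Agent.Lib.NilpotentMaxAct.Construct
import Cfsg.Agent.Lib.Solvable.InvariantNilpotentMax

/-!
# A nilpotent maximal invariant subgroup with Sylow 2-subgroups of class at most two
-/

set_option autoImplicit false

namespace CfsgLib.NilMaxAct

open Subgroup CfsgLib.ConjFunctor
open scoped commutatorElement

universe u v

variable {A : Type v} [Group A] [Finite A]

/-- Normal 2-complement from the normalizers of invariant normal subgroups of a Sylow 2-subgroup of
class at most two. -/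
theorem hasNormalPComplement_two {G : Type u} [Group G] [Finite G] [MulDistribMulAction A G]
    (hA : Odd (Nat.card A)) (S : Sylow 2 G)
    (hSA : ∀ a : A, ∀ x ∈ (S : Subgroup G), a • x ∈ (S : Subgroup G))
    (hcl : ∀ a ∈ (S : Subgroup G), ∀ b ∈ (S : Subgroup G), ∀ c ∈ (S : Subgroup G), Commute ⁅a, b⁆ c)
    (hN : ∀ W : Subgroup G, W ≠ ⊥ → W ≤ (S : Subgroup G) →
      (S : Subgroup G) ≤ normalizer (W : Set G) →
      (∀ a : A, ∀ w ∈ W, a • w ∈ W) → Cfsg.HasNormalPComplement 2 (normalizer (W : Set G))) :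
    Cfsg.HasNormalPComplement 2 G := by
  classical
  refine CfsgLib.NPC.frobenius_criterion fun Q₀ hQ₀ g hg hgo => ?_
  by_cases hb : Q₀ = ⊥
  · subst hb
    exact mem_centralizer_iff.2 fun x hx => by rw [(mem_bot.1 hx : x = 1), one_mul, mul_one]
  obtain ⟨w₁, -, hw₁⟩ := (isSyl_top S).exists_cj_le hQ₀ le_top
  obtain ⟨w₂, -, hfull⟩ := exists_fullyNorm_cj S hw₁
  rw [← cj_mul] at hfull
  set w := w₂ * w₁
  set Q := cj w Q₀ with hQdef
  have hS1 : (S : Subgroup G) ≠ ⊥ := fun h => hb (by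
    have := hfull.1
    rw [h, le_bot_iff, hQdef, cj_eq_bot_iff] at this
    exact this)
  have hNS : Cfsg.HasNormalPComplement 2 (normalizer ((S : Subgroup G) : Set G)) :=
    hN _ hS1 le_rfl le_normalizer hSA
  have hg1 : w * g * w⁻¹ ∈ normalizer (Q : Set G) := by
    rw [hQdef, ← cj_normalizer]; exact conj_mem_cj hg
  set g₁ := w * g * w⁻¹ with hg₁
  have hg1o : (orderOf g₁).Coprime 2 := by
    rw [hg₁, ← MulAut.conj_apply, MulEquiv.orderOf_eq]; exact hgo
  suffices hmain : g₁ ∈ centralizer (Q : Set G) by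
    refine mem_centralizer_iff.2 fun x hx => ?_
    have h1 := mem_centralizer_iff.1 hmain (w * x * w⁻¹) (conj_mem_cj hx)
    rw [hg₁] at h1
    have h2 := congrArg (fun z => w⁻¹ * z * w) h1
    simpa [mul_assoc] using h2
  set C := centralizer (Q : Set G) with hC
  set R := (S : Subgroup G) ⊓ C with hR
  have hCN : C ≤ normalizer (Q : Set G) := centralizer_le_normalizer _
  have hNC : ∀ n ∈ normalizer (Q : Set G), ∀ c ∈ C, n * c * n⁻¹ ∈ C := by
    intro n hn c hc
    refine mem_centralizer_iff.2 fun q hq => ?_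
    have h1 : n⁻¹ * q * n ∈ Q := by simpa using (mem_normalizer_iff.1 (inv_mem hn) q).1 hq
    calc q * (n * c * n⁻¹) = n * ((n⁻¹ * q * n) * c) * n⁻¹ := by group
      _ = n * (c * (n⁻¹ * q * n)) * n⁻¹ := by rw [mem_centralizer_iff.1 hc _ h1]
      _ = n * c * n⁻¹ * q := by group
  have hRsyl : IsSyl 2 R C := by
    obtain ⟨T₀, hT₀, hRT⟩ := exists_isSyl_ge (p := 2) (S.isPGroup'.to_le inf_le_left)
      (inf_le_right : R ≤ C)
    obtain ⟨h, hh, hle⟩ := hfull.2.exists_cj_le hT₀.isPGroup (hT₀.le.trans hCN)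
    have h1 : cj h T₀ ≤ R := le_inf (hle.trans inf_le_left) (by
      rintro _ ⟨z, hz, rfl⟩
      exact hNC h hh z (hT₀.le hz))
    have h2 := Subgroup.eq_of_le_of_card_ge hRT ((card_cj h T₀).ge.trans (card_le_of_le h1))
    rwa [← h2] at hT₀
  have hgC : cj g₁ C = C := by
    refine Subgroup.eq_of_le_of_card_ge ?_ (card_cj _ _).ge
    rintro _ ⟨z, hz, rfl⟩
    exact hNC g₁ hg1 z hz
  obtain ⟨c, hc, he⟩ := (hgC ▸ hRsyl.conj g₁).exists_cj_eq hRsyl
  rw [← cj_mul] at he
  set n := c * g₁ with hn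
  have hnQ : n ∈ normalizer (Q : Set G) := mul_mem (hCN hc) hg1
  set D := Q ⊔ R with hD
  have hnD : n ∈ normalizer (D : Set G) := by
    rw [← cj_eq_self_iff]
    show (Q ⊔ R).map _ = Q ⊔ R
    rw [Subgroup.map_sup]
    exact congrArg₂ _ (cj_eq_self_iff.2 hnQ) he
  have hDS : D ≤ (S : Subgroup G) := sup_le hfull.1 inf_le_left
  have hCD : (S : Subgroup G) ⊓ centralizer (D : Set G) ≤ D :=
    (le_inf inf_le_left (inf_le_right.trans (centralizer_le (le_sup_left : Q ≤ D)))).trans
      (le_sup_right : R ≤ D)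
  obtain ⟨j, hj⟩ := CfsgLib.Transfer.exists_pow_coprime_orderOf (p := 2) n
  have hm : n ^ 2 ^ j ∈ centralizer (D : Set G) := by
    by_contra hcon
    obtain ⟨Q', U, E, x, hfork, hxo, hxQ, hxU⟩ := exists_fork (S := S) hDS hCD hcl hNS
      (pow_mem hnD _) hj hcon
    refine hfork.absurd_of_npc hA S.isPGroup' (fun a => ?_) hxo hxQ hxU hN
    refine Subgroup.eq_of_le_of_card_ge ?_ (Subgroup.card_map_of_injective (MulEquiv.injective _)).ge
    rintro _ ⟨z, hz, rfl⟩
    exact hSA a z hz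
  set φ := Q.normalizerMonoidHom
  have hker : ∀ a : normalizer (Q : Set G), φ a = 1 ↔ (a : G) ∈ C := fun a => by
    rw [← MonoidHom.mem_ker, normalizerMonoidHom_ker, mem_subgroupOf]
  have hn' : φ ⟨n, hnQ⟩ = φ ⟨g₁, hg1⟩ := by
    rw [show (⟨n, hnQ⟩ : normalizer (Q : Set G)) = ⟨c, hCN hc⟩ * ⟨g₁, hg1⟩ from rfl, map_mul,
      (hker ⟨c, hCN hc⟩).2 hc, one_mul]
  have hmQ : φ (⟨n, hnQ⟩ ^ 2 ^ j) = 1 := (hker _).2 (by
    rw [Subgroup.coe_pow]; exact centralizer_le (le_sup_left : Q ≤ D) hm)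
  rw [map_pow, hn', ← map_pow, hker, Subgroup.coe_pow] at hmQ
  obtain ⟨i, hi⟩ := exists_pow_eq_self_of_coprime (Nat.Coprime.pow_left j hg1o.symm)
  rw [← hi]
  exact pow_mem hmQ i

omit [Finite A] in
theorem map_smul_eq {G : Type u} [Group G] [Finite G] [MulDistribMulAction A G] {H : Subgroup G}
    (hH : ∀ a : A, ∀ x ∈ H, a • x ∈ H) (a : A) :
    H.map (MulDistribMulAction.toMonoidHom G a) = H :=
  le_antisymm (by rintro _ ⟨y, hy, rfl⟩; exact hH a y hy)
    (fun y hy => ⟨a⁻¹ • y, hH a⁻¹ y hy, smul_inv_smul a y⟩)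

omit [Finite A] in
theorem sup_smul_mem {G : Type u} [Group G] [MulDistribMulAction A G] {H K : Subgroup G}
    (hH : ∀ a : A, ∀ x ∈ H, a • x ∈ H) (hK : ∀ a : A, ∀ x ∈ K, a • x ∈ K) :
    ∀ a : A, ∀ x ∈ H ⊔ K, a • x ∈ H ⊔ K := by
  intro a x hx
  have h : (H ⊔ K).map (MulDistribMulAction.toMonoidHom G a) ≤ H ⊔ K := by
    rw [Subgroup.map_sup]
    exact sup_le_sup (by rintro _ ⟨y, hy, rfl⟩; exact hH a y hy)
      (by rintro _ ⟨y, hy, rfl⟩; exact hK a y hy)
  exact h ⟨x, hx, rfl⟩

/-- The last step: the maximal subgroup has a normal invariant complement. -/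
theorem isSolvable_of_complement {G : Type u} [Group G] [Finite G] [MulDistribMulAction A G]
    [Group.IsSolvable A] (hcop : (Nat.card A).Coprime (Nat.card G)) {M K : Subgroup G} [K.Normal]
    (hMinv : ∀ a : A, ∀ x ∈ M, a • x ∈ M) (hKinv : ∀ a : A, ∀ x ∈ K, a • x ∈ K)
    (hM : Group.IsNilpotent M)
    (hmax : ∀ H : Subgroup G, M ≤ H → H ≠ ⊤ → (∀ a : A, ∀ h ∈ H, a • h ∈ H) → H = M)
    (hK : K ≠ ⊥) (hKM : (Nat.card K).Coprime (Nat.card M)) : Group.IsSolvable G := by
  classical
  let ψ : A →* MulAut M :=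
    { toFun := fun a =>
        { toFun := fun m => ⟨a • (m : G), hMinv a _ m.2⟩
          invFun := fun m => ⟨a⁻¹ • (m : G), hMinv a⁻¹ _ m.2⟩
          left_inv := fun m => Subtype.ext (inv_smul_smul a (m : G))
          right_inv := fun m => Subtype.ext (smul_inv_smul a (m : G))
          map_mul' := fun m n => Subtype.ext (smul_mul' a (m : G) n) }
      map_one' := by ext m; exact one_smul A (m : G)
      map_mul' := fun a b => by ext m; exact mul_smul a b (m : G) }
  let fA : A →* MulAut K :=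
    { toFun := fun a =>
        { toFun := fun k => ⟨a • (k : G), hKinv a _ k.2⟩
          invFun := fun k => ⟨a⁻¹ • (k : G), hKinv a⁻¹ _ k.2⟩
          left_inv := fun k => Subtype.ext (inv_smul_smul a (k : G))
          right_inv := fun k => Subtype.ext (smul_inv_smul a (k : G))
          map_mul' := fun k n => Subtype.ext (smul_mul' a (k : G) n) }
      map_one' := by ext k; exact one_smul A (k : G)
      map_mul' := fun a b => by ext k; exact mul_smul a b (k : G) }
  let fM : M →* MulAut K := (MulAut.conjNormal (H := K)).comp M.subtype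
  let θ : M ⋊[ψ] A →* MulAut K := SemidirectProduct.lift fM fA (fun a => by
    ext m k
    show (a • (m : G)) * k * (a • (m : G))⁻¹ = a • ((m : G) * (a⁻¹ • (k : G)) * (m : G)⁻¹)
    rw [smul_mul', smul_mul', smul_inv', smul_inv_smul])
  let _ : MulDistribMulAction (M ⋊[ψ] A) K := MulDistribMulAction.compHom K θ
  have : Finite (M ⋊[ψ] A) := Finite.of_equiv _ SemidirectProduct.equivProd.symm
  have : Group.IsNilpotent M := hM
  have hsolv : Group.IsSolvable (M ⋊[ψ] A) :=
    Group.isSolvable_of_ker_le_range (SemidirectProduct.inl : M →* M ⋊[ψ] A)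
      SemidirectProduct.rightHom (SemidirectProduct.range_inl_eq_ker_rightHom).ge
  have hcopK : (Nat.card (M ⋊[ψ] A)).Coprime (Nat.card K) := by
    rw [SemidirectProduct.card]
    exact Nat.Coprime.mul_left hKM.symm (hcop.coprime_dvd_right (card_subgroup_dvd_card K))
  obtain ⟨q, hq, hqK⟩ := Nat.exists_prime_and_dvd (n := Nat.card K)
    (fun h => hK (Subgroup.card_eq_one.1 h))
  have := Fact.mk hq
  obtain ⟨Q, -, hQ⟩ := CfsgLib.Solvable.exists_smul_invariant_sylow (A := M ⋊[ψ] A) hcopK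
    (Or.inl hsolv) q (U := (⊥ : Subgroup K)) IsPGroup.of_bot (fun a u hu => by
      rw [mem_bot] at hu ⊢
      rw [hu, smul_one])
  set Q' := (Q : Subgroup K).map K.subtype with hQ'
  have hQ'A : ∀ a : A, ∀ x ∈ Q', a • x ∈ Q' := by
    rintro a _ ⟨x, hx, rfl⟩
    refine ⟨(SemidirectProduct.inr a : M ⋊[ψ] A) • x, hQ _ x hx, ?_⟩
    show ((θ (SemidirectProduct.inr a) x : K) : G) = _
    rw [SemidirectProduct.lift_inr]
    rfl
  have hMQ : M ≤ normalizer (Q' : Set G) := by
    intro m hm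
    rw [mem_normalizer_iff_map_conj_eq]
    refine Subgroup.eq_of_le_of_card_ge ?_ (Subgroup.card_map_of_injective (MulEquiv.injective _)).ge
    rintro _ ⟨_, ⟨x, hx, rfl⟩, rfl⟩
    refine ⟨(SemidirectProduct.inl ⟨m, hm⟩ : M ⋊[ψ] A) • x, hQ _ x hx, ?_⟩
    show ((θ (SemidirectProduct.inl ⟨m, hm⟩) x : K) : G) = _
    rw [SemidirectProduct.lift_inl]
    rfl
  have hQ'1 : ¬ Q' ≤ M := fun hle => by
    refine Q.ne_bot_of_dvd_card hqK (Subgroup.map_eq_bot_iff_of_injective _ K.subtype_injective |>.1 ?_)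
    rw [← hQ', eq_bot_iff]
    exact (le_inf (map_subtype_le _) hle).trans (disjoint_of_coprime_natCard hKM).le_bot
  have htop : M ⊔ Q' = ⊤ := by
    by_contra hne
    exact hQ'1 (le_sup_right.trans (hmax _ le_sup_left hne (sup_smul_mem hMinv hQ'A)).le)
  have hQ'n : Q'.Normal :=
    normalizer_eq_top_iff.1 (top_le_iff.1 (htop ▸ sup_le hMQ le_normalizer))
  have : Group.IsNilpotent Q' := (Q.isPGroup'.map K.subtype).isNilpotent
  have hsur : Function.Surjective ((QuotientGroup.mk' Q').comp M.subtype) := by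
    intro z
    obtain ⟨g, rfl⟩ := QuotientGroup.mk'_surjective Q' z
    have hg : g ∈ M ⊔ Q' := htop ▸ mem_top g
    obtain ⟨m, hm, x, hx, rfl⟩ := mem_sup_of_normal_right.1 hg
    exact ⟨⟨m, hm⟩, by simp [(QuotientGroup.eq_one_iff x).2 hx]⟩
  have : Group.IsSolvable (G ⧸ Q') := Group.isSolvable_of_surjective hsur
  exact Group.isSolvable_of_ker_le_range Q'.subtype (QuotientGroup.mk' Q')
    (by rw [QuotientGroup.ker_mk', range_subtype])

/-- A group with a coprime operator group and a nilpotent maximal invariant subgroup whose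
Sylow 2-subgroup has class at most two is solvable. -/
theorem isSolvable_of_nilpotent_max
    (hFTA : ∀ (X : Type v) [Group X] [Finite X], Odd (Nat.card X) → Group.IsSolvable X)
    (hFTG : ∀ (X : Type u) [Group X] [Finite X], Odd (Nat.card X) → Group.IsSolvable X) :
    ∀ (n : ℕ) (G : Type u) [Group G] [Finite G] [MulDistribMulAction A G], Nat.card G = n →
    (Nat.card A).Coprime (Nat.card G) → ∀ M : Subgroup G, M ≠ ⊤ →
    (∀ a : A, ∀ x ∈ M, a • x ∈ M) →
    (∀ H : Subgroup G, M ≤ H → H ≠ ⊤ → (∀ a : A, ∀ h ∈ H, a • h ∈ H) → H = M) →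
    Group.IsNilpotent M →
    (∀ a ∈ M, ∀ b ∈ M, ∀ c ∈ M, (∃ k, orderOf a = 2 ^ k) → (∃ k, orderOf b = 2 ^ k) →
      (∃ k, orderOf c = 2 ^ k) → Commute ⁅a, b⁆ c) →
    Group.IsSolvable G := by
  intro n
  induction n using Nat.strong_induction_on with
  | _ n ih =>
  intro G _ _ _ hn hcop M hMtop hMinv hmax hMnil hcl
  rcases Nat.even_or_odd (Nat.card G) with hGe | hGo
  swap
  · exact hFTG G hGo
  have hAo : Odd (Nat.card A) := Nat.not_even_iff_odd.1 fun h => absurd
    (Nat.eq_one_of_dvd_coprimes hcop (even_iff_two_dvd.1 h) (even_iff_two_dvd.1 hGe)) (by norm_num)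
  have hAsolv : Group.IsSolvable A := hFTA A hAo
  have : Group.IsNilpotent M := hMnil
  by_cases hN : ∃ N : Subgroup G, N.Normal ∧ N ≠ ⊥ ∧ N ≤ M ∧ ∀ a : A, ∀ x ∈ N, a • x ∈ N
  · obtain ⟨Z, hZn, hZ1, hZM, hZinv⟩ := hN
    let φ : A →* MulAut (G ⧸ Z) :=
      { toFun := fun a => QuotientGroup.congr Z Z (MulDistribMulAction.toMulEquiv G a)
          (le_antisymm (by rintro _ ⟨y, hy, rfl⟩; exact hZinv a y hy)
            (fun y hy => ⟨a⁻¹ • y, hZinv a⁻¹ y hy, smul_inv_smul a y⟩))
        map_one' := by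
          ext x
          obtain ⟨g, rfl⟩ := QuotientGroup.mk'_surjective Z x
          exact congrArg (QuotientGroup.mk' Z) (one_smul A g)
        map_mul' := fun a b => by
          ext x
          obtain ⟨g, rfl⟩ := QuotientGroup.mk'_surjective Z x
          exact congrArg (QuotientGroup.mk' Z) (mul_smul a b g) }
    let _ : MulDistribMulAction A (G ⧸ Z) := MulDistribMulAction.compHom (G ⧸ Z) φ
    set f := QuotientGroup.mk' Z with hf
    have hfs := QuotientGroup.mk'_surjective Z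
    have hact : ∀ (a : A) (g : G), a • f g = f (a • g) := fun _ _ => rfl
    have hlt : Nat.card (G ⧸ Z) < n := by
      rw [← hn, ← index_eq_card, ← card_mul_index Z]
      exact lt_mul_of_one_lt_left (Nat.pos_of_ne_zero index_ne_zero_of_finite)
        (Z.one_lt_card_iff_ne_bot.mpr hZ1)
    have hcm : (M.map f).comap f = M := by
      rw [comap_map_eq, QuotientGroup.ker_mk', sup_eq_left.2 hZM]
    have hlift : ∀ z ∈ M.map f, (∃ k, orderOf z = 2 ^ k) →
        ∃ m ∈ M, (∃ k, orderOf m = 2 ^ k) ∧ f m = z := by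
      rintro _ ⟨m, hm, rfl⟩ ⟨k, hk⟩
      obtain ⟨a, b, hab, ha, hb⟩ := CfsgLib.PNilpotent.exists_pPart_decomp (p := 2) m
      refine ⟨m ^ a, pow_mem hm a, ha, ?_⟩
      have h1 : f (m ^ b) = 1 := by
        refine orderOf_eq_one_iff.1 (Nat.eq_one_of_dvd_coprimes (Nat.Coprime.pow_right k hb)
          (orderOf_map_dvd f _) ?_)
        rw [map_pow, ← hk]
        exact orderOf_pow_dvd b
      conv_rhs => rw [← hab, map_mul, h1, mul_one]
    have hqsol : Group.IsSolvable (G ⧸ Z) := by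
      refine ih _ hlt (G ⧸ Z) rfl (hcop.coprime_dvd_right (card_quotient_dvd_card Z)) (M.map f)
        ?_ ?_ ?_ ?_ ?_
      · intro h
        exact hMtop (by rw [← hcm, h, comap_top])
      · rintro a _ ⟨m, hm, rfl⟩
        exact ⟨a • m, hMinv a m hm, (hact a m).symm⟩
      · intro H hH hHt hHinv
        have h1 := hmax (H.comap f) (hcm ▸ comap_mono hH) (fun h => hHt (by
          rw [← map_comap_eq_self_of_surjective hfs H, h, map_top_of_surjective _ hfs]))
          (fun a h hh => by rw [mem_comap, ← hact]; exact hHinv a _ hh)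
        rw [← h1, map_comap_eq_self_of_surjective hfs]
      · exact Group.nilpotent_of_surjective (f.subgroupMap M) (f.subgroupMap_surjective M)
      · intro a ha b hb c hc hao hbo hco
        obtain ⟨a', ha', hao', rfl⟩ := hlift a ha hao
        obtain ⟨b', hb', hbo', rfl⟩ := hlift b hb hbo
        obtain ⟨c', hc', hco', rfl⟩ := hlift c hc hco
        rw [← map_commutatorElement]
        exact (hcl a' ha' b' hb' c' hc' hao' hbo' hco').map f
    have : Group.IsNilpotent Z := Group.nilpotent_of_surjective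
      (subgroupOfEquivOfLe hZM).toMonoidHom (subgroupOfEquivOfLe hZM).surjective
    exact Group.isSolvable_of_ker_le_range Z.subtype f (by rw [QuotientGroup.ker_mk', range_subtype])
  push Not at hN
  have hnorm : ∀ X : Subgroup G, X ≠ ⊥ → X ≤ M → M ≤ normalizer (X : Set G) →
      (∀ a : A, ∀ x ∈ X, a • x ∈ X) → normalizer (X : Set G) = M := by
    intro X hX1 hXM hMX hXinv
    refine hmax _ hMX (fun h => ?_) (CfsgLib.Solvable.smul_mem_normalizer hXinv)
    obtain ⟨a, x, hx, hne⟩ := hN X (normalizer_eq_top_iff.1 h) hX1 hXM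
    exact hne (hXinv a x hx)
  by_cases hM1 : M = ⊥
  · refine CfsgLib.Solvable.isSolvable_of_invariant_nilpotent _ G rfl hcop (Or.inl hAsolv)
      fun H hH hHinv => ?_
    rw [hmax H (hM1 ▸ bot_le) hH hHinv]
    exact hMnil
  -- Sylow subgroups of G inside M
  have hsyl : ∀ (p : ℕ) [Fact p.Prime], p ∣ Nat.card M → ∃ P : Sylow p G,
      (P : Subgroup G) ≤ M ∧ M ≤ normalizer ((P : Subgroup G) : Set G) ∧
      (∀ a : A, ∀ x ∈ (P : Subgroup G), a • x ∈ (P : Subgroup G)) ∧
      (∀ x ∈ M, (∃ k, orderOf x = p ^ k) → x ∈ (P : Subgroup G)) := by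
    intro p _ hd
    obtain ⟨S⟩ := (inferInstance : Nonempty (Sylow p M))
    have hSn : (S : Subgroup M).Normal :=
      (Group.isNilpotent_of_finite_tfae.out 0 3 rfl rfl).1 hMnil p inferInstance S
    have := Sylow.unique_of_normal S hSn
    set S' := (S : Subgroup M).map M.subtype with hS'
    have hmem : ∀ x ∈ M, (∃ k, orderOf x = p ^ k) → x ∈ S' := by
      rintro x hx ⟨k, hk⟩
      obtain ⟨T, hT⟩ := (IsPGroup.of_card (p := p) (n := k) (G := zpowers (⟨x, hx⟩ : M))
        (by rw [Nat.card_zpowers, orderOf_mk, hk])).exists_le_sylow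
      rw [Subsingleton.elim T S] at hT
      exact ⟨_, hT (mem_zpowers _), rfl⟩
    have hS'M : S' ≤ M := map_subtype_le _
    have hpe : ∀ x ∈ S', ∃ k, orderOf x = p ^ k := fun x hx =>
      CfsgLib.FGS73.MaxNil.isPElement_of_mem (S.isPGroup'.map _) hx
    have hinv : ∀ a : A, ∀ x ∈ S', a • x ∈ S' := fun a x hx => by
      refine hmem _ (hMinv a x (hS'M hx)) ?_
      rw [show orderOf (a • x) = orderOf x from orderOf_injective
        (MulDistribMulAction.toMonoidHom G a) (MulAction.injective a) x]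
      exact hpe x hx
    have hMS' : M ≤ normalizer (S' : Set G) := by
      intro m hm
      rw [mem_normalizer_iff_map_conj_eq]
      refine Subgroup.eq_of_le_of_card_ge ?_ (Subgroup.card_map_of_injective (MulEquiv.injective _)).ge
      rintro _ ⟨x, hx, rfl⟩
      refine hmem _ (mul_mem (mul_mem hm (hS'M hx)) (inv_mem hm)) ?_
      show ∃ k, orderOf (MulAut.conj m x) = p ^ k
      rw [MulEquiv.orderOf_eq]
      exact hpe x hx
    have hne : S' ≠ ⊥ := by
      rw [hS', Ne, map_eq_bot_iff_of_injective _ M.subtype_injective]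
      exact S.ne_bot_of_dvd_card hd
    have hNS := hnorm S' hne hS'M hMS' hinv
    obtain ⟨P, hP⟩ := (S.isPGroup'.map M.subtype).exists_le_sylow
    have hPS : (P : Subgroup G) ≤ S' := by
      by_contra hnle
      obtain ⟨x, hx, hxS⟩ := SetLike.exists_of_lt
        (lt_inf_normalizer P.isPGroup' (lt_of_le_not_ge hP hnle))
      rw [hNS] at hx
      exact hxS (hmem x hx.2 (CfsgLib.FGS73.MaxNil.isPElement_of_mem P.isPGroup' hx.1))
    have hPeq : (P : Subgroup G) = S' := le_antisymm hPS hP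
    exact ⟨P, hPeq ▸ hS'M, hPeq ▸ hMS', hPeq ▸ hinv, hPeq ▸ hmem⟩
  have hMnpc : ∀ (p : ℕ) [Fact p.Prime], Cfsg.HasNormalPComplement p M := fun p _ =>
    CfsgLib.FGS73.MaxNil.hasNormalPComplement_of_isNilpotent
  have hall : ∀ q : ℕ, q.Prime → q ∣ Nat.card M → Cfsg.HasNormalPComplement q G := by
    intro q hq hd
    have := Fact.mk hq
    obtain ⟨P, hPM, hMP, hPinv, hPmem⟩ := hsyl q hd
    have hP1 : (P : Subgroup G) ≠ ⊥ := P.ne_bot_of_dvd_card (hd.trans (card_subgroup_dvd_card M))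
    by_cases hq2 : q = 2
    · subst hq2
      refine hasNormalPComplement_two hAo P hPinv (fun a ha b hb c hc => ?_) (fun W hW1 hWP hPW hWinv => ?_)
      · exact hcl a (hPM ha) b (hPM hb) c (hPM hc)
          (CfsgLib.FGS73.MaxNil.isPElement_of_mem P.isPGroup' ha)
          (CfsgLib.FGS73.MaxNil.isPElement_of_mem P.isPGroup' hb)
          (CfsgLib.FGS73.MaxNil.isPElement_of_mem P.isPGroup' hc)
      · have hMW : M ≤ normalizer (W : Set G) := by
          intro m hm
          obtain ⟨a, b, hab, ha, hb⟩ := CfsgLib.PNilpotent.exists_pPart_decomp (p := 2) m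
          rw [← hab]
          refine mul_mem (hPW (hPmem _ (pow_mem hm a) ha)) (centralizer_le_normalizer _
            (mem_centralizer_iff.2 fun x hx => ?_))
          have := CfsgLib.FGS73.MaxNil.commute_of_pPower_of_coprime (G := M) (p := 2)
            (x := ⟨x, hPM (hWP hx)⟩) (y := ⟨m ^ b, pow_mem hm b⟩)
            (by rw [orderOf_mk]; exact CfsgLib.FGS73.MaxNil.isPElement_of_mem P.isPGroup' (hWP hx))
            (by rw [orderOf_mk]; exact hb)
          exact congrArg Subtype.val this.eq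
        rw [hnorm W hW1 (hWP.trans hPM) hMW hWinv]
        exact hMnpc 2
    · have hMZ : M ≤ normalizer (CfsgLib.ZJCenter.zj 0 (P : Subgroup G) : Set G) :=
        hMP.trans (CfsgLib.ZJCenter.normalizer_le_normalizer_zj 0 _)
      have hZinv : ∀ a : A, ∀ x ∈ CfsgLib.ZJCenter.zj 0 (P : Subgroup G),
          a • x ∈ CfsgLib.ZJCenter.zj 0 (P : Subgroup G) := by
        intro a x hx
        have e := CfsgLib.ZJCenter.zj_map (f := MulDistribMulAction.toMonoidHom G a)
          (MulAction.injective a) 0 (P : Subgroup G)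
        rw [map_smul_eq hPinv a] at e
        exact e.le ⟨x, hx, rfl⟩
      refine CfsgLib.GlaubermanThompson.hasNormalPComplement_of_normalizer_zj hq2 (Or.inl rfl) P ?_
      rw [hnorm _ (CfsgLib.ZJCenter.zj_ne_bot (Or.inl rfl) P.2 hP1)
        ((CfsgLib.ZJCenter.zj_le 0 _).trans hPM) hMZ hZinv]
      exact hMnpc q
  -- the complement
  set K : Subgroup G := ⨅ q : {q : ℕ // q.Prime ∧ q ∣ Nat.card M}, Cfsg.pResidual q.1 G with hK
  have hKn : K.Normal := Subgroup.normal_iInf_normal fun q => CfsgLib.Transfer.pResidual_normal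
  have hKinv : ∀ a : A, ∀ x ∈ K, a • x ∈ K := by
    intro a x hx
    rw [hK, mem_iInf] at hx ⊢
    intro q
    have := (CfsgLib.Transfer.map_pResidual_equiv (p := q.1) (MulDistribMulAction.toMulEquiv G a)).le
      ⟨x, hx q, rfl⟩
    exact this
  have hKcop : (Nat.card K).Coprime (Nat.card M) := by
    refine Nat.coprime_of_dvd fun q hq h1 h2 => ?_
    have := Fact.mk hq
    exact CfsgLib.Transfer.hasNormalPComplement_iff_not_dvd.1 (hall q hq h2)
      (h1.trans (Subgroup.card_dvd_of_le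
        (iInf_le (fun q : {q : ℕ // q.Prime ∧ q ∣ Nat.card M} => Cfsg.pResidual q.1 G) ⟨q, hq, h2⟩)))
  have hKb : K ≠ ⊥ := by
    intro hb
    apply hMtop
    refine Subgroup.card_eq_iff_eq_top _ |>.1 (Nat.dvd_antisymm (Subgroup.card_subgroup_dvd_card M) ?_)
    rw [← Nat.factorization_prime_le_iff_dvd Nat.card_pos.ne' Nat.card_pos.ne']
    intro r hr
    have := Fact.mk hr
    by_cases hrG : r ∣ Nat.card G
    swap
    · rw [Nat.factorization_eq_zero_of_not_dvd hrG]; exact Nat.zero_le _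
    have hrM : r ∣ Nat.card M := by
      by_contra hrM
      obtain ⟨x, hx⟩ := exists_prime_orderOf_dvd_card' r hrG
      have hxK : x ∈ K := Subgroup.mem_iInf.2 fun q => by
        have := Fact.mk q.2.1
        refine CfsgLib.Transfer.mem_pResidual_of_coprime ?_
        rw [hx]
        exact (Nat.coprime_primes hr q.2.1).2 fun he => hrM (he ▸ q.2.2)
      rw [hb, mem_bot] at hxK
      rw [hxK, orderOf_one] at hx
      exact hr.ne_one hx.symm
    obtain ⟨P, hPM, -⟩ := hsyl r hrM
    exact (hr.pow_dvd_iff_le_factorization Nat.card_pos.ne').1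
      (P.card_eq_multiplicity ▸ Subgroup.card_dvd_of_le hPM :
        r ^ (Nat.card G).factorization r ∣ Nat.card M)
  exact isSolvable_of_complement hcop hMinv hKinv hMnil hmax hKb hKcop

end CfsgLib.NilMaxAct
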